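import Groth.Agent.GrMod19.Ver.HEquiv
import Groth.Agent.GrMod19.Gor.Pairing
import Mathlib.RingTheory.Finiteness.Basic

/-!
Veronese parts of a dual of the top local cohomology.
-/

universe u

open DirectSum GrLC

namespace Groth.Agent.GrMod19.Vero

set_option autoImplicit false

variable {R R' : Type u} [CommRing R] [CommRing R'] {𝒜 : ℤ → AddSubgroup R} [GradedRing 𝒜]
  {𝒜' : ℤ → AddSubgroup R'} [GradedRing 𝒜'] (V : Vero 𝒜 𝒜') [IsNoetherianRing R]
  {C : Type u} [AddCommGroup C] [Module R C] (𝒞 : ℤ → AddSubgroup C) [Decomposition 𝒞]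
  [SetLike.GradedSMul 𝒜 𝒞]

/-- Veronese parts of finite modules are finite -/
theorem finite_obj [Module.Finite R C] (r : ℤ) : Module.Finite R' (V.Obj 𝒞 r) := by
  let gen : Submodule R' (V.Obj 𝒞 r) → Submodule R C := fun N => Submodule.span R (V.val 𝒞 '' (N : Set (V.Obj 𝒞 r)))
  have key : ∀ N : Submodule R' (V.Obj 𝒞 r), ∀ x : V.Obj 𝒞 r, V.val 𝒞 x ∈ gen N → x ∈ N := by
    intro N x hx
    have : ∀ z ∈ gen N, ∀ a : R, ∃ y ∈ N, V.val 𝒞 y = V.proj 𝒞 r (a • z) := by
      intro z hz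
      induction hz using Submodule.span_induction with
      | mem z hz =>
        obtain ⟨y, hy, rfl⟩ := hz
        intro a
        induction a using piece_induction 𝒜 with
        | h0 => exact ⟨0, N.zero_mem, by simp [val_zero]⟩
        | hadd a b ha hb =>
          obtain ⟨p, hp, hpe⟩ := ha
          obtain ⟨p', hp', hpe'⟩ := hb
          exact ⟨p + p', add_mem hp hp', by rw [val_add, hpe, hpe', add_smul, map_add]⟩
        | hp i a ha =>
          by_cases hi : (V.q : ℤ) ∣ i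
          · have h : a ∈ 𝒜 (i / V.q * V.q) := by rw [Int.ediv_mul_cancel hi]; exact ha
            rw [← V.deg] at h
            obtain ⟨c, -, rfl⟩ := h
            refine ⟨c • y, N.smul_mem c hy, ?_⟩
            rw [val_smul]
            exact ((V.proj_smul 𝒞 r c _).trans (congrArg _ (Subtype.prop y))).symm
          · refine ⟨0, N.zero_mem, ?_⟩
            rw [val_zero]
            have hy' : V.proj 𝒞 r (V.val 𝒞 y) = V.val 𝒞 y := Subtype.prop y
            obtain ⟨t, ht⟩ := exists_sum_cmp 𝒞 (V.val 𝒞 y)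
            rw [← ht, Finset.smul_sum, map_sum]
            refine (Finset.sum_eq_zero fun d _ => ?_).symm
            rw [V.proj_of_mem 𝒞 r (smul_mem_add 𝒜 𝒞 ha (cmp_mem 𝒞 d _))]
            split_ifs with hd
            · by_cases hd' : (V.q : ℤ) ∣ d - r
              · rw [show i + d - r = i + (d - r) by ring] at hd
                exact absurd ((Int.dvd_add_left hd').1 hd) hi
              · rw [V.cmp_eq_zero_of_mem_part 𝒞 hy' hd', smul_zero]
            · rfl
      | zero => exact fun a => ⟨0, N.zero_mem, by simp [val_zero]⟩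
      | add p p' _ _ hp hp' =>
        intro a
        obtain ⟨y, hyN, hy⟩ := hp a
        obtain ⟨y', hyN', hy'⟩ := hp' a
        exact ⟨y + y', add_mem hyN hyN', by rw [val_add, hy, hy', smul_add, map_add]⟩
      | smul c p _ hp =>
        intro a
        rw [smul_smul]
        exact hp (a * c)
    obtain ⟨y, hyN, hy⟩ := this _ hx 1
    rw [one_smul, show V.proj 𝒞 r (V.val 𝒞 x) = V.val 𝒞 x from Subtype.prop x] at hy
    exact V.val_injective 𝒞 r hy ▸ hyN
  have hmono : StrictMono gen := fun N N' h => lt_of_le_of_ne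
    (Submodule.span_mono (Set.image_mono h.le)) fun he =>
      h.not_ge fun x hx => key N x (he ▸ Submodule.subset_span ⟨x, hx, rfl⟩)
  have : IsNoetherian R' (V.Obj 𝒞 r) := isNoetherian_iff'.2 hmono.wellFoundedGT
  infer_instance

/-- the Veronese part of a dual is dual to the cohomology of the Veronese subring -/
theorem exists_perfect_obj {m : HomogeneousIdeal 𝒜} {m' : HomogeneousIdeal 𝒜'}
    (ha : (m'.toIdeal.map V.φ).radical = m.toIdeal.radical) {n : ℕ} {I : StarInjRes 𝒜 𝒜}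
    (I' : StarInjRes 𝒜' 𝒜') {β : I.H m n →+ C →+ deg0 𝒜}
    (hβ : Pairing.IsPerfect 𝒞 (I.Hcomp m n) β) :
    ∃ β' : I'.H m' n →+ V.Obj 𝒞 0 →+ deg0 𝒜',
      Pairing.IsPerfect (V.piece 𝒞 0) (I'.Hcomp m' n) β' := by
  let : Decomposition (I.Hgr m n) := (isInternal_Hgr I m n).chooseDecomposition
  have : SetLike.GradedSMul 𝒜 (I.Hgr m n) := ⟨fun {i j} a x ha hx => by
    rw [vadd_eq_add, add_comm]; exact smul_mem_Hcomp I m n ha hx⟩
  obtain ⟨Θ, hΘ, hΘ'⟩ := V.exists_H_equiv_self ha I I' n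
  let ρ := RingEquiv.ofBijective V.deg0Map V.deg0Map_bijective
  have hρ : ∀ a : deg0 𝒜', ((ρ a : deg0 𝒜) : R) = V.φ a.1 := fun a => rfl
  have hdeg : ∀ d, ∀ h ∈ I'.Hcomp m' n d, V.val (I.Hgr m n) (Θ.symm h) ∈ I.Hcomp m n (d * V.q + 0) :=
    fun d h hh => hΘ' d h hh
  let β' : I'.H m' n →+ V.Obj 𝒞 0 →+ deg0 𝒜' := AddMonoidHom.mk'
    (fun h => AddMonoidHom.mk' (fun c => ρ.symm (β (V.val _ (Θ.symm h)) (V.val 𝒞 c)))
      fun c c' => by rw [val_add, map_add, map_add])
    (fun h h' => AddMonoidHom.ext fun c => by simp [map_add, val_add])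
  refine ⟨β', fun a h c => ?_, fun a h c => ?_, fun d k h hh c hc hne => ?_, fun d h hh hc => ?_, fun d F => ?_⟩
  · show ρ.symm (β (V.val _ (Θ.symm (a • h))) _) = ρ.symm (β _ (V.val 𝒞 (a • c)))
    rw [map_smul, val_smul, val_smul, hβ.balanced]
  · show ρ.symm (β _ (V.val 𝒞 ((a : R') • c))) = a * ρ.symm (β _ _)
    rw [val_smul, ← hρ, hβ.linear, map_mul, RingEquiv.symm_apply_apply]
  · show ρ.symm (β _ _) = 0
    have hc' : V.val 𝒞 c ∈ 𝒞 (k * V.q + 0) := hc
    rw [hβ.orth _ _ _ (hdeg d h hh) _ hc' (by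
      rw [show d * (V.q : ℤ) + 0 + (k * V.q + 0) = (d + k) * V.q by ring]
      exact mul_ne_zero hne (Int.natCast_ne_zero.2 V.pos.ne')), map_zero]
  · refine Θ.symm.injective (V.val_injective _ 0 ?_)
    rw [map_zero, val_zero]
    refine hβ.unique _ _ (hdeg d h hh) fun c hc' => ρ.symm.injective ?_
    rw [map_zero]
    have hc2 : c ∈ 𝒞 ((-d) * V.q + 0) := by
      rwa [show -(d * (V.q : ℤ) + 0) = (-d) * V.q + 0 by ring] at hc'
    exact hc ⟨c, V.mem_part_of_mem 𝒞 0 (-d) hc2⟩ hc2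
  · have hcast : ∀ c : GrLC.comp 𝒜 𝒞 (-(d * V.q + 0)), c.1 ∈ 𝒞 ((-d) * V.q + 0) := fun c => by
      obtain ⟨x, hx⟩ := c
      have h : x ∈ 𝒞 (-(d * (V.q : ℤ) + 0)) := hx
      rwa [show -(d * (V.q : ℤ) + 0) = (-d) * V.q + 0 by ring] at h
    let lift : GrLC.comp 𝒜 𝒞 (-(d * V.q + 0)) → GrLC.comp 𝒜' (V.piece 𝒞 0) (-d) := fun c =>
      ⟨⟨c.1, V.mem_part_of_mem 𝒞 0 (-d) (hcast c)⟩, hcast c⟩
    obtain ⟨h, hh, hF⟩ := hβ.onto (d * V.q + 0)
      { toFun := fun c => ρ (F (lift c))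
        map_add' := fun c c' => by rw [← map_add ρ, ← map_add F]; rfl
        map_smul' := fun a c => by
          obtain ⟨a', rfl⟩ := ρ.surjective a
          rw [show lift (ρ a' • c) = a' • lift c from rfl, map_smul, smul_eq_mul, map_mul]
          rfl }
    refine ⟨Θ ⟨h, V.mem_part_of_mem _ 0 d hh⟩, hΘ d _ hh, fun c => ?_⟩
    show ρ.symm (β (V.val _ (Θ.symm (Θ _))) (V.val 𝒞 c.1)) = F c
    rw [Θ.symm_apply_apply]
    have hc : V.val 𝒞 c.1 ∈ 𝒞 (-(d * V.q + 0)) := by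
      rw [show -(d * (V.q : ℤ) + 0) = (-d) * V.q + 0 by ring]
      exact c.2
    exact (congrArg ρ.symm (hF ⟨_, hc⟩)).trans (ρ.symm_apply_apply (F c))

end Groth.Agent.GrMod19.Vero
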