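import Groth.Agent.GrMod19.Ver.Ring
import Groth.Agent.GrMod19.Ver.Dual
import Groth.Agent.GrMod19.Gor.GorPair
import Groth.Agent.Gor18.Dim

/-!
Canonical modules of Veronese subrings.
-/

universe u

open DirectSum GrLC

namespace Groth.Agent.GrMod19

set_option autoImplicit false

/-- Gorenstein rings are Cohen–Macaulay -/
theorem cm_of_gorenstein (R : Type u) [CommRing R] [LocCoh.IsGorensteinRing R] :
    LocCoh.IsCohenMacaulayRing R where
  isCohenMacaulayLocalRing_localization p _ := by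
    have := LocCoh.IsGorensteinRing.isGorensteinLocalRing_localization p
    exact Gor18.gor_cm (Localization.AtPrime p)

namespace Vero

variable {R R' : Type u} [CommRing R] [IsNoetherianRing R] [CommRing R'] {𝒜 : ℤ → AddSubgroup R}
  [GradedRing 𝒜] {𝒜' : ℤ → AddSubgroup R'} [GradedRing 𝒜'] (V : Vero 𝒜 𝒜') (hpos : NonnegGr 𝒜)
  (h0 : IsField (deg0 𝒜))
include hpos h0

/-- the Veronese part of a dual module is canonical for the Veronese subring -/
theorem exists_canonical {m : HomogeneousIdeal 𝒜} (hma : IsPlus m) {n : ℕ} {I : StarInjRes 𝒜 𝒜}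
    {C : Type u} [AddCommGroup C] [Module R C] [Module.Finite R C] (𝒞 : ℤ → AddSubgroup C)
    [Decomposition 𝒞] [SetLike.GradedSMul 𝒜 𝒞] {β : I.H m n →+ C →+ deg0 𝒜}
    (hβ : Pairing.IsPerfect 𝒞 (I.Hcomp m n) β) {m' : HomogeneousIdeal 𝒜'} (hm' : IsStarLocal 𝒜' m')
    (hm'a : IsPlus m') :
    ∃ (I' : StarInjRes 𝒜' 𝒜') (X : GMod.{u} 𝒜') (e : (R' ⧸ m'.toIdeal) →ₗ[R'] X.carrier),
      IsStarInjHull 𝒜' (quotGr 𝒜' m') X.gr e ∧ IsStarCanonical 𝒜' (V.piece 𝒞 0) X.gr m' n I' := by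
  have := V.isNoetherianRing
  have := isMaximal_star (V.nonnegGr hpos) hm'
  obtain ⟨I'⟩ := GrInj18.nonempty_starInjRes 𝒜' 𝒜'
  obtain ⟨β', hβ'⟩ := V.exists_perfect_obj 𝒞 (V.radical_map_plus hma hm'a) I' hβ
  obtain ⟨X, e, he⟩ := GrInj18.exists_isStarInjHull 𝒜' (GrLC.quotGr 𝒜' m')
  have := V.finite_obj 𝒞 0
  exact ⟨I', X, e, he, Pairing.starCanonical_of_perfect
    (fun k hk => (AddSubgroup.eq_bot_iff_forall _).2 (V.nonnegGr hpos k hk))
    (V.isField_deg0 h0) hm' hm'a he (V.piece 𝒞 0) hβ'⟩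

end Vero

end Groth.Agent.GrMod19
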