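import Groth.Agent.GrMod19.Ver.Basic
import Groth.Agent.GrMod19.StarInj
import Groth.Agent.LC16.ChangeRings
import Mathlib.RingTheory.GradedAlgebra.Homogeneous.Ideal

/-!
Torsion and acyclicity for Veronese parts.
-/

universe u

open DirectSum

namespace Groth.Agent.GrMod19.Vero

set_option autoImplicit false

variable {R R' : Type u} [CommRing R] [CommRing R'] {𝒜 : ℤ → AddSubgroup R} [GradedRing 𝒜]
  {𝒜' : ℤ → AddSubgroup R'} [GradedRing 𝒜'] (V : Vero 𝒜 𝒜')
  {M : Type u} [AddCommGroup M] [Module R M] (ℳ : ℤ → AddSubgroup M) [Decomposition ℳ]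
  [SetLike.GradedSMul 𝒜 ℳ]

/-- the extension of a homogeneous ideal is homogeneous -/
theorem isHomogeneous_map (a' : HomogeneousIdeal 𝒜') : (a'.toIdeal.map V.φ).IsHomogeneous 𝒜 := by
  have h : a'.toIdeal.map V.φ =
      Ideal.span (V.φ '' {c : R' | c ∈ a'.toIdeal ∧ SetLike.IsHomogeneousElem 𝒜' c}) := by
    refine le_antisymm (Ideal.map_le_iff_le_comap.2 fun c hc => ?_)
      (Ideal.span_le.2 fun _ ⟨c, hc, he⟩ => he ▸ Ideal.mem_map_of_mem _ hc.1)
    obtain ⟨t, ht⟩ := exists_sum_cmp 𝒜' c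
    rw [← ht]
    exact sum_mem fun d _ => Ideal.subset_span
      ⟨_, ⟨a'.isHomogeneous d hc, d, cmp_mem 𝒜' d c⟩, rfl⟩
  rw [h]
  refine Ideal.homogeneous_span 𝒜 _ ?_
  rintro _ ⟨c, ⟨-, d, hd⟩, rfl⟩
  exact ⟨_, V.φ_mem hd⟩

variable {a : HomogeneousIdeal 𝒜} {a' : HomogeneousIdeal 𝒜'}
  (ha : (a'.toIdeal.map V.φ).radical = a.toIdeal.radical)
include ha

variable [IsNoetherianRing R]

/-- torsion for the two ideals -/
theorem mem_gam_map_iff {X : Type u} [AddCommGroup X] [Module R X] (x : X) :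
    x ∈ GrLC.gam (a'.toIdeal.map V.φ) X ↔ x ∈ GrLC.gam a.toIdeal X := by
  have key : ∀ I J : Ideal R, I ≤ J.radical → x ∈ GrLC.gam J X → x ∈ GrLC.gam I X := by
    intro I J h ⟨e, he⟩
    obtain ⟨k, hk⟩ := Ideal.exists_pow_le_of_le_radical_of_fg h (IsNoetherian.noetherian I)
    exact ⟨k * e, fun r hr => he r (Ideal.pow_right_mono hk e (by rwa [← pow_mul]))⟩
  exact ⟨key _ _ (Ideal.le_radical.trans ha.ge), key _ _ (Ideal.le_radical.trans ha.le)⟩

/-- torsion in a Veronese part -/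
theorem mem_gam_iff {r : ℤ} (x : V.Obj ℳ r) :
    x ∈ GrLC.gam a'.toIdeal (V.Obj ℳ r) ↔ V.val ℳ x ∈ GrLC.gam a.toIdeal M := by
  rw [← mem_gam_map_iff V ha]
  constructor
  · rintro ⟨k, hk⟩
    refine ⟨k, fun z hz => ?_⟩
    rw [← Ideal.map_pow] at hz
    induction hz using Submodule.span_induction with
    | mem z hz =>
      obtain ⟨c, hc, rfl⟩ := hz
      exact congrArg (V.val ℳ) (hk c hc)
    | zero => exact zero_smul _ _
    | add p p' _ _ hp hp' => rw [add_smul, hp, hp', add_zero]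
    | smul c p _ hp => rw [smul_eq_mul, mul_smul, hp, smul_zero]
  · rintro ⟨k, hk⟩
    refine ⟨k, fun c hc => V.val_injective ℳ r ((V.val_smul ℳ c x).trans ?_)⟩
    rw [hk _ (by rw [← Ideal.map_pow]; exact Ideal.mem_map_of_mem _ hc)]
    exact (V.val_zero ℳ).symm

omit ha in
/-- Veronese parts of *injectives are acyclic -/
theorem subsingleton_H_obj [IsNoetherianRing R'] (hM : GrLC.IsStarInj 𝒜 ℳ) (r : ℤ) {i : ℕ}
    (hi : 0 < i) : Subsingleton (LocCoh.H a'.toIdeal i (V.Obj ℳ r)) := by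
  let : Algebra R' R := V.φ.toAlgebra
  let : Module R' M := Module.compHom M V.φ
  have : IsScalarTower R' R M := IsScalarTower.of_algebraMap_smul fun _ _ => rfl
  obtain ⟨φ, -⟩ := LC16.ChangeRings.exists_equiv (R := R') (R' := R) a'.toIdeal i M
  have := subsingleton_H hM ⟨a'.toIdeal.map V.φ, V.isHomogeneous_map a'⟩ hi
  have hsub : Subsingleton (LocCoh.H a'.toIdeal i M) := φ.symm.toEquiv.subsingleton
  let inc : V.Obj ℳ r →ₗ[R'] M :=
    { toFun := V.val ℳ
      map_add' := V.val_add ℳ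
      map_smul' := V.val_smul ℳ }
  let ret : M →ₗ[R'] V.Obj ℳ r :=
    { toFun := fun x => ⟨V.proj ℳ r x, V.proj_mem_part ℳ r x⟩
      map_add' := fun x y => V.val_injective ℳ r (map_add (V.proj ℳ r) x y)
      map_smul' := fun c x => V.val_injective ℳ r (V.proj_smul ℳ r c x) }
  have h : ret ∘ₗ inc = LinearMap.id := LinearMap.ext fun x => V.val_injective ℳ r (Subtype.prop x)
  refine subsingleton_of_forall_eq 0 fun y => ?_
  rw [← LinearMap.id_apply (R := R') y, ← LC15.Hmap_id, ← h, LC15.Hmap_comp, LinearMap.comp_apply,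
    hsub.elim (LC15.Hmap a'.toIdeal i inc y) 0, map_zero]

end Groth.Agent.GrMod19.Vero
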