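import Groth.Agent.GrMod19.Res
import Mathlib.RingTheory.Noetherian.Basic

/-!
Veronese subrings and Veronese parts of graded modules.
-/

universe u

open DirectSum

namespace Groth.Agent.GrMod19

set_option autoImplicit false

variable {R R' : Type u} [CommRing R] [CommRing R']

/-- a presentation of a Veronese subring -/
structure Vero (𝒜 : ℤ → AddSubgroup R) (𝒜' : ℤ → AddSubgroup R') where
  /-- the inclusion -/
  φ : R' →+* R
  /-- the step -/
  q : ℕ
  pos : 0 < q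
  inj : Function.Injective φ
  deg : ∀ j : ℤ, (𝒜' j).map (φ : R' →+ R) = 𝒜 (j * q)

namespace Vero

variable {𝒜 : ℤ → AddSubgroup R} [GradedRing 𝒜] {𝒜' : ℤ → AddSubgroup R'} [GradedRing 𝒜']
  (V : Vero 𝒜 𝒜')
  {M : Type u} [AddCommGroup M] [Module R M] (ℳ : ℤ → AddSubgroup M) [Decomposition ℳ]
  [SetLike.GradedSMul 𝒜 ℳ]

omit [GradedRing 𝒜] [GradedRing 𝒜'] in
lemma φ_mem {j : ℤ} {c : R'} (hc : c ∈ 𝒜' j) : V.φ c ∈ 𝒜 (j * V.q) := by
  rw [← V.deg j]
  exact ⟨c, hc, rfl⟩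

/-- the components in one residue class of degrees -/
noncomputable def proj (r : ℤ) : M →+ M :=
  (DirectSum.toAddMonoid fun d => if (V.q : ℤ) ∣ d - r then (ℳ d).subtype else 0).comp
    (decomposeAddEquiv ℳ).toAddMonoidHom

omit [GradedRing 𝒜] [GradedRing 𝒜'] [SetLike.GradedSMul 𝒜 ℳ] [Module R M] in
lemma proj_of_mem (r : ℤ) {d : ℤ} {x : M} (hx : x ∈ ℳ d) :
    V.proj ℳ r x = if (V.q : ℤ) ∣ d - r then x else 0 := by
  rw [proj, AddMonoidHom.comp_apply, show (decomposeAddEquiv ℳ).toAddMonoidHom x = decompose ℳ x from rfl,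
    decompose_of_mem ℳ hx, DirectSum.toAddMonoid_of]
  split_ifs <;> rfl

lemma proj_smul (r : ℤ) (c : R') (x : M) : V.proj ℳ r (V.φ c • x) = V.φ c • V.proj ℳ r x := by
  induction c using piece_induction 𝒜' with
  | h0 => simp
  | hadd a b ha hb => simp [add_smul, ha, hb]
  | hp i a ha =>
    induction x using piece_induction ℳ with
    | h0 => simp
    | hadd p p' hp hp' => simp [smul_add, hp, hp']
    | hp d p hp =>
      rw [proj_of_mem V ℳ r (smul_mem_add 𝒜 ℳ (V.φ_mem ha) hp), proj_of_mem V ℳ r hp, smul_ite, smul_zero]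
      refine if_congr ?_ rfl rfl
      rw [show i * (V.q : ℤ) + d - r = d - r + i * V.q by ring]
      exact dvd_add_left (dvd_mul_left _ i)

/-- the Veronese part, as a subgroup -/
def part (r : ℤ) : AddSubgroup M where
  carrier := {x | V.proj ℳ r x = x}
  zero_mem' := map_zero _
  add_mem' {x y} hx hy := by
    show _ = _
    rw [map_add, hx, hy]
  neg_mem' {x} hx := by
    show _ = _
    rw [map_neg, hx]

omit [GradedRing 𝒜] [GradedRing 𝒜'] [SetLike.GradedSMul 𝒜 ℳ] [Module R M] in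
lemma cmp_proj (r d : ℤ) (x : M) :
    cmp ℳ d (V.proj ℳ r x) = if (V.q : ℤ) ∣ d - r then cmp ℳ d x else 0 := by
  induction x using piece_induction ℳ with
  | h0 => simp
  | hadd p p' hp hp' => rw [map_add, map_add, map_add, hp, hp']; split_ifs <;> simp
  | hp e p hp =>
    rw [proj_of_mem V ℳ r hp]
    by_cases hed : e = d
    · subst hed
      split_ifs
      · rfl
      · rw [map_zero]
    · rw [cmp_of_ne ℳ hp hed]
      split_ifs <;> simp [cmp_of_ne ℳ hp hed]

omit [GradedRing 𝒜] [GradedRing 𝒜'] [SetLike.GradedSMul 𝒜 ℳ] [Module R M] in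
lemma proj_mem_part (r : ℤ) (x : M) : V.proj ℳ r x ∈ V.part ℳ r := by
  refine eq_of_cmp ℳ fun d => ?_
  rw [cmp_proj, cmp_proj]
  split_ifs <;> rfl

omit [GradedRing 𝒜] [GradedRing 𝒜'] [SetLike.GradedSMul 𝒜 ℳ] [Module R M] in
lemma mem_part_of_mem (r j : ℤ) {x : M} (hx : x ∈ ℳ (j * V.q + r)) : x ∈ V.part ℳ r := by
  show V.proj ℳ r x = x
  rw [proj_of_mem V ℳ r hx, add_sub_cancel_right, if_pos (dvd_mul_left _ j)]

omit [GradedRing 𝒜] [GradedRing 𝒜'] [SetLike.GradedSMul 𝒜 ℳ] [Module R M] in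
lemma cmp_eq_zero_of_mem_part {r d : ℤ} {x : M} (hx : x ∈ V.part ℳ r) (hd : ¬ (V.q : ℤ) ∣ d - r) :
    cmp ℳ d x = 0 := by
  rw [← show V.proj ℳ r x = x from hx, cmp_proj, if_neg hd]

omit [GradedRing 𝒜] [GradedRing 𝒜'] in
lemma mul_add_injective (r : ℤ) : Function.Injective fun j : ℤ => j * (V.q : ℤ) + r := fun a b h =>
  mul_right_cancel₀ (Int.natCast_ne_zero.2 V.pos.ne') (add_right_cancel h)

/-- the Veronese part -/
def Obj (r : ℤ) : Type u := ↥(V.part ℳ r)

noncomputable instance (r : ℤ) : AddCommGroup (V.Obj ℳ r) :=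
  inferInstanceAs (AddCommGroup ↥(V.part ℳ r))

/-- the inclusion of the Veronese part -/
def val {r : ℤ} (x : V.Obj ℳ r) : M := Subtype.val x

noncomputable instance (r : ℤ) : SMul R' (V.Obj ℳ r) :=
  ⟨fun c x => ⟨V.φ c • V.val ℳ x, by
    show V.proj ℳ r _ = _
    rw [proj_smul]
    exact congrArg _ (Subtype.prop x)⟩⟩

omit [GradedRing 𝒜] [GradedRing 𝒜'] [SetLike.GradedSMul 𝒜 ℳ] in
lemma val_injective (r : ℤ) : Function.Injective (V.val ℳ (r := r)) := fun _ _ h => Subtype.ext h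

lemma val_smul {r : ℤ} (c : R') (x : V.Obj ℳ r) : V.val ℳ (c • x) = V.φ c • V.val ℳ x := rfl

omit [GradedRing 𝒜] [GradedRing 𝒜'] [SetLike.GradedSMul 𝒜 ℳ] [Module R M] in
lemma val_add {r : ℤ} (x y : V.Obj ℳ r) : V.val ℳ (x + y) = V.val ℳ x + V.val ℳ y := rfl

omit [GradedRing 𝒜] [GradedRing 𝒜'] [SetLike.GradedSMul 𝒜 ℳ] [Module R M] in
lemma val_zero {r : ℤ} : V.val ℳ (0 : V.Obj ℳ r) = 0 := rfl

noncomputable instance (r : ℤ) : Module R' (V.Obj ℳ r) where
  one_smul x := V.val_injective ℳ r (by rw [val_smul, map_one, one_smul])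
  mul_smul a b x := V.val_injective ℳ r (by simp only [val_smul, map_mul, mul_smul])
  smul_zero a := V.val_injective ℳ r (by simp only [val_smul, val_zero, smul_zero])
  smul_add a x y := V.val_injective ℳ r (by simp only [val_smul, val_add, smul_add])
  add_smul a b x := V.val_injective ℳ r (by simp only [val_smul, val_add, map_add, add_smul])
  zero_smul x := V.val_injective ℳ r (by simp only [val_smul, val_zero, map_zero, zero_smul])

/-- the inclusion, semilinearly -/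
noncomputable def incl (r : ℤ) : V.Obj ℳ r →ₛₗ[V.φ] M where
  toFun := V.val ℳ
  map_add' := V.val_add ℳ
  map_smul' := V.val_smul ℳ

/-- the pieces of the Veronese part -/
noncomputable def piece (r : ℤ) (j : ℤ) : AddSubgroup (V.Obj ℳ r) :=
  (ℳ (j * V.q + r)).comap (V.incl ℳ r).toAddMonoidHom

lemma mem_piece {r j : ℤ} {x : V.Obj ℳ r} : x ∈ V.piece ℳ r j ↔ V.val ℳ x ∈ ℳ (j * V.q + r) := Iff.rfl

noncomputable instance (r : ℤ) : Decomposition (V.piece ℳ r) :=
  (isInternal_of_proj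
    (fun j => AddMonoidHom.mk' (fun x => (⟨cmp ℳ (j * V.q + r) (V.val ℳ x),
        V.mem_part_of_mem ℳ r j (cmp_mem ℳ _ _)⟩ : V.Obj ℳ r))
      fun x y => V.val_injective ℳ r ((congrArg _ (V.val_add ℳ x y)).trans (map_add (cmp ℳ (j * V.q + r)) _ _)))
    (V.piece ℳ r)
    (fun _ _ => cmp_mem ℳ _ _)
    (fun j x hx => V.val_injective ℳ r (cmp_of_mem ℳ hx))
    (fun j k x hx hne => V.val_injective ℳ r
      (cmp_of_ne ℳ (hx : V.val ℳ x ∈ _) fun h => hne (V.mul_add_injective r h)))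
    (fun x => by
      obtain ⟨t, ht⟩ := exists_sum_cmp ℳ (V.val ℳ x)
      refine ⟨(t.filter fun d => (V.q : ℤ) ∣ d - r).image fun d => (d - r) / V.q, V.val_injective ℳ r ?_⟩
      refine (map_sum (V.incl ℳ r) _ _).trans ?_
      rw [Finset.sum_image (fun a ha b hb h => by
        simp only [Finset.coe_filter, Set.mem_setOf_eq] at ha hb
        have h1 := congrArg (· * (V.q : ℤ)) h
        simp only [Int.ediv_mul_cancel ha.2, Int.ediv_mul_cancel hb.2] at h1
        linarith)]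
      conv_rhs => rw [← ht]
      rw [Finset.sum_filter]
      refine Finset.sum_congr rfl fun d _ => ?_
      split_ifs with hd
      · show cmp ℳ ((d - r) / V.q * V.q + r) (V.val ℳ x) = _
        rw [Int.ediv_mul_cancel hd, sub_add_cancel]
      · exact (V.cmp_eq_zero_of_mem_part ℳ (Subtype.prop x) hd).symm)).chooseDecomposition

instance (r : ℤ) : SetLike.GradedSMul 𝒜' (V.piece ℳ r) := ⟨fun {i j} c x hc hx => by
  show V.φ c • V.val ℳ x ∈ ℳ ((i + j) * V.q + r)
  have h := smul_mem_add 𝒜 ℳ (V.φ_mem hc) (hx : V.val ℳ x ∈ _)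
  rwa [show i * (V.q : ℤ) + (j * V.q + r) = (i + j) * V.q + r by ring] at h⟩

variable {N : Type u} [AddCommGroup N] [Module R N] (𝒩 : ℤ → AddSubgroup N) [Decomposition 𝒩]
  [SetLike.GradedSMul 𝒜 𝒩]

variable {ℳ 𝒩} in
omit [GradedRing 𝒜] [GradedRing 𝒜'] [SetLike.GradedSMul 𝒜 ℳ] [SetLike.GradedSMul 𝒜 𝒩] in
lemma map_proj {f : M →ₗ[R] N} (hf : GrLC.IsGrHom ℳ 𝒩 f) (r : ℤ) (x : M) :
    f (V.proj ℳ r x) = V.proj 𝒩 r (f x) := by
  induction x using piece_induction ℳ with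
  | h0 => simp
  | hadd p p' hp hp' => simp [hp, hp']
  | hp d p hp => rw [proj_of_mem V ℳ r hp, proj_of_mem V 𝒩 r (hf d p hp), apply_ite f, map_zero]

/-- the Veronese part of a homogeneous map -/
noncomputable def map {f : M →ₗ[R] N} (hf : GrLC.IsGrHom ℳ 𝒩 f) (r : ℤ) :
    V.Obj ℳ r →ₗ[R'] V.Obj 𝒩 r where
  toFun x := ⟨f (V.val ℳ x), by
    show V.proj 𝒩 r _ = _
    rw [← V.map_proj hf]
    exact congrArg f (Subtype.prop x)⟩
  map_add' x y := V.val_injective 𝒩 r (map_add f _ _)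
  map_smul' c x := V.val_injective 𝒩 r (map_smul f _ _)

lemma val_map {f : M →ₗ[R] N} (hf : GrLC.IsGrHom ℳ 𝒩 f) {r : ℤ} (x : V.Obj ℳ r) :
    V.val 𝒩 (V.map ℳ 𝒩 hf r x) = f (V.val ℳ x) := rfl

lemma isGrHom_map {f : M →ₗ[R] N} (hf : GrLC.IsGrHom ℳ 𝒩 f) (r : ℤ) :
    GrLC.IsGrHom (V.piece ℳ r) (V.piece 𝒩 r) (V.map ℳ 𝒩 hf r) := fun j _ hx => hf _ _ hx

/-- preimages can be taken in the Veronese part -/
lemma exists_val_map {f : M →ₗ[R] N} (hf : GrLC.IsGrHom ℳ 𝒩 f) {r : ℤ} (y : V.Obj 𝒩 r) {x : M}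
    (hx : f x = V.val 𝒩 y) : ∃ z : V.Obj ℳ r, V.map ℳ 𝒩 hf r z = y :=
  ⟨⟨V.proj ℳ r x, V.proj_mem_part ℳ r x⟩, V.val_injective 𝒩 r (by
    show f (V.proj ℳ r x) = _
    rw [V.map_proj hf, hx]
    exact Subtype.prop y)⟩

/-- the Veronese subring of a Noetherian ring is Noetherian -/
theorem isNoetherianRing (V : Vero 𝒜 𝒜') [IsNoetherianRing R] : IsNoetherianRing R' := by
  let : Decomposition (selfPiece 𝒜) := inferInstance
  have himg : ∀ a : R, ∃ b : R', V.φ b = V.proj (selfPiece 𝒜) 0 a := fun a => by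
    induction a using piece_induction (selfPiece 𝒜) with
    | h0 => exact ⟨0, by simp⟩
    | hadd p p' hp hp' =>
      obtain ⟨b, hb⟩ := hp
      obtain ⟨b', hb'⟩ := hp'
      exact ⟨b + b', by simp [hb, hb']⟩
    | hp d p hp =>
      rw [proj_of_mem V (selfPiece 𝒜) 0 hp]
      split_ifs with hd
      · rw [sub_zero] at hd
        have h : p ∈ 𝒜 (d / V.q * V.q) := by rw [Int.ediv_mul_cancel hd]; exact hp
        rw [← V.deg] at h
        obtain ⟨b, -, hb⟩ := h
        exact ⟨b, hb⟩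
      · exact ⟨0, map_zero _⟩
  have hcomap : ∀ I : Ideal R', (I.map V.φ).comap V.φ = I := fun I => by
    refine le_antisymm (fun x hx => ?_) Ideal.le_comap_map
    have key : ∀ z ∈ I.map V.φ, ∀ a : R, ∃ b ∈ I, V.φ b = V.proj (selfPiece 𝒜) 0 (a * z) := by
      intro z hz
      induction hz using Submodule.span_induction with
      | mem z hz =>
        obtain ⟨i, hi, rfl⟩ := hz
        intro a
        obtain ⟨b, hb⟩ := himg a
        refine ⟨i * b, I.mul_mem_right b hi, ?_⟩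
        rw [map_mul, hb, mul_comm a, ← smul_eq_mul, ← smul_eq_mul, V.proj_smul]
      | zero => exact fun a => ⟨0, I.zero_mem, by simp⟩
      | add p p' _ _ hp hp' =>
        intro a
        obtain ⟨b, hbI, hb⟩ := hp a
        obtain ⟨b', hbI', hb'⟩ := hp' a
        exact ⟨b + b', add_mem hbI hbI', by simp [mul_add, hb, hb']⟩
      | smul c p _ hp =>
        intro a
        rw [smul_eq_mul, ← mul_assoc]
        exact hp (a * c)
    obtain ⟨b, hbI, hb⟩ := key _ hx 1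
    obtain ⟨i, hi⟩ : ∃ i, i = x := ⟨x, rfl⟩
    have hx' : V.proj (selfPiece 𝒜) 0 (V.φ x) = V.φ x := by
      have h1 : (1 : R) ∈ selfPiece 𝒜 0 := SetLike.GradedOne.one_mem (A := 𝒜)
      rw [← mul_one (V.φ x), ← smul_eq_mul, V.proj_smul, proj_of_mem V (selfPiece 𝒜) 0 h1,
        if_pos (by simp)]
    rw [one_mul, hx'] at hb
    exact V.inj hb ▸ hbI
  have hmono : StrictMono (fun I : Ideal R' => I.map V.φ) := fun I J h =>
    lt_of_le_of_ne (Ideal.map_mono h.le) fun he => h.ne (by rw [← hcomap I, ← hcomap J]; exact congrArg _ he)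
  exact isNoetherianRing_iff.2 (isNoetherian_iff'.2 hmono.wellFoundedGT)

end Vero

end Groth.Agent.GrMod19
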