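import Groth.Agent.GrMod19.Ver.HEquiv
import Groth.Agent.GrMod19.Gor.Pairing
import Groth.Agent.GrMod19.Length
import Mathlib.LinearAlgebra.Dual.Lemmas

/-!
The canonical module of a Veronese subring.
-/

universe u

open DirectSum GrLC

namespace Groth.Agent.GrMod19

set_option autoImplicit false

variable {R : Type u} [CommRing R] [IsNoetherianRing R] {𝒜 : ℤ → AddSubgroup R} [GradedRing 𝒜]
  (hpos : NonnegGr 𝒜) (h0 : IsField (deg0 𝒜)) {m : HomogeneousIdeal 𝒜} (hm : IsStarLocal 𝒜 m)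
include hpos h0 hm

omit hm in
/-- functionals on the local cohomology are evaluations -/
theorem Pairing.existsUnique_rep {C : Type u} [AddCommGroup C] [Module R C] [Module.Finite R C]
    (𝒞 : ℤ → AddSubgroup C) [Decomposition 𝒞] [SetLike.GradedSMul 𝒜 𝒞] {H : Type u} [AddCommGroup H]
    [Module R H] {ℋ : ℤ → Submodule (deg0 𝒜) H} {β : H →+ C →+ deg0 𝒜}
    (hβ : Pairing.IsPerfect 𝒞 ℋ β) {d j : ℤ} (hdj : d + j = 0) (F : ℋ d →ₗ[deg0 𝒜] deg0 𝒜) :
    ∃! x : GrLC.comp 𝒜 𝒞 j, ∀ h : ℋ d, β h.1 x.1 = F h := by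
  obtain rfl : j = -d := by omega
  let : Field (deg0 𝒜) := h0.toField
  have : Module.Finite (deg0 𝒜) (GrLC.comp 𝒜 𝒞 (-d)) :=
    finite_comp hpos (isPlus_irrel (R := R) (𝒜 := 𝒜) hpos) 𝒞 (-d)
  let T : ℋ d →ₗ[deg0 𝒜] Module.Dual (deg0 𝒜) (GrLC.comp 𝒜 𝒞 (-d)) :=
    { toFun := fun h =>
        { toFun := fun x => β h.1 x.1
          map_add' := fun x y => map_add (β h.1) x.1 y.1
          map_smul' := fun a x => hβ.linear a h.1 x.1 }
      map_add' := fun h h' => LinearMap.ext fun x => by simp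
      map_smul' := fun a h => LinearMap.ext fun x => by
        show β ((a : R) • h.1) x.1 = a * β h.1 x.1
        rw [hβ.balanced, hβ.linear] }
  have hT : Function.Bijective T := by
    refine ⟨(injective_iff_map_eq_zero T).2 fun h hh => Subtype.ext
      (hβ.unique d h.1 h.2 fun c hc => LinearMap.congr_fun hh ⟨c, hc⟩), fun G => ?_⟩
    obtain ⟨h, hh, hG⟩ := hβ.onto d G
    exact ⟨⟨h, hh⟩, LinearMap.ext hG⟩
  let eT := LinearEquiv.ofBijective T hT
  let ev := (Module.evalEquiv (deg0 𝒜) (GrLC.comp 𝒜 𝒞 (-d))).trans eT.dualMap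
  have hev : ∀ x (h : ℋ d), ev x h = β h.1 x.1 := fun x h => rfl
  refine ⟨ev.symm F, fun h => ?_, fun y hy => ?_⟩
  · show β h.1 (ev.symm F).1 = F h
    rw [← hev, ev.apply_symm_apply]
  · refine ev.injective ?_
    rw [ev.apply_symm_apply]
    exact LinearMap.ext fun h => (hev y h).trans (hy h)

variable (hmsp : m.toIdeal = Ideal.span (⋃ n ∈ Set.Ioi (0 : ℤ), (𝒜 n : Set R)))
include hmsp

/-- the canonical module of the Veronese subring is the Veronese part of the canonical module -/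
theorem Vero.exists_canonical_map {R' : Type u} [CommRing R'] {𝒜' : ℤ → AddSubgroup R'} [GradedRing 𝒜']
    (V : Vero 𝒜 𝒜') {n : ℕ} {I : StarInjRes 𝒜 𝒜} {E : Type u} [AddCommGroup E] [Module R E]
    {𝓔 : ℤ → AddSubgroup E} [Decomposition 𝓔] [SetLike.GradedSMul 𝒜 𝓔] {e : (R ⧸ m.toIdeal) →ₗ[R] E}
    (he : IsStarInjHull 𝒜 (quotGr 𝒜 m) 𝓔 e) {C : Type u} [AddCommGroup C] [Module R C]
    (𝒞 : ℤ → AddSubgroup C) [Decomposition 𝒞] [SetLike.GradedSMul 𝒜 𝒞]
    (hC : IsStarCanonical 𝒜 𝒞 𝓔 m n I) {m' : HomogeneousIdeal 𝒜'} (hm' : IsStarLocal 𝒜' m')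
    (hm'sp : m'.toIdeal = Ideal.span (⋃ j ∈ Set.Ioi (0 : ℤ), (𝒜' j : Set R')))
    {I' : StarInjRes 𝒜' 𝒜'} {E' : Type u} [AddCommGroup E'] [Module R' E']
    {𝓔' : ℤ → AddSubgroup E'} [Decomposition 𝓔'] [SetLike.GradedSMul 𝒜' 𝓔']
    {e' : (R' ⧸ m'.toIdeal) →ₗ[R'] E'} (he' : IsStarInjHull 𝒜' (quotGr 𝒜' m') 𝓔' e') {C' : Type u}
    [AddCommGroup C'] [Module R' C'] (𝒞' : ℤ → AddSubgroup C') [Decomposition 𝒞']
    [SetLike.GradedSMul 𝒜' 𝒞'] (hC' : IsStarCanonical 𝒜' 𝒞' 𝓔' m' n I') :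
    ∃ g : C' →ₛₗ[V.φ] C, Function.Injective g ∧
      ∀ j : ℤ, (𝒞' j).map (g : C' →+ C) = 𝒞 (j * V.q) := by
  classical
  have hpos' : ∀ j : ℤ, j < 0 → 𝒜' j = ⊥ := fun j hj => (AddSubgroup.eq_bot_iff_forall _).2 fun x hx => by
    refine V.inj ((hpos (j * V.q) ?_ _ (V.φ_mem hx)).trans (map_zero V.φ).symm)
    exact mul_neg_of_neg_of_pos hj (Int.natCast_pos.2 V.pos)
  have h0' : IsField (deg0 𝒜') :=
    (RingEquiv.ofBijective V.deg0Map V.deg0Map_bijective).toMulEquiv.isField h0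
  have := V.isNoetherianRing
  have hn' : NonnegGr 𝒜' := fun j hj x hx => AddSubgroup.mem_bot.1 (hpos' j hj ▸ hx)
  let ρ := RingEquiv.ofBijective V.deg0Map V.deg0Map_bijective
  have hρ : ∀ a : deg0 𝒜', ((ρ a : deg0 𝒜) : R) = V.φ a.1 := fun a => rfl
  obtain ⟨β, hβ⟩ := Pairing.exists_perfect (fun k hk => (AddSubgroup.eq_bot_iff_forall _).2 (hpos k hk))
    h0 hm hmsp he 𝒞 hC
  obtain ⟨β', hβ'⟩ := Pairing.exists_perfect hpos' h0' hm' hm'sp he' 𝒞' hC'
  have := hC.1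
  have := hC'.1
  let : Decomposition (I.Hgr m n) := (isInternal_Hgr I m n).chooseDecomposition
  have : SetLike.GradedSMul 𝒜 (I.Hgr m n) := ⟨fun {i j} a x ha hx => by
    rw [vadd_eq_add, add_comm]; exact smul_mem_Hcomp I m n ha hx⟩
  obtain ⟨Θ, hΘ, hΘ'⟩ := V.exists_H_equiv_self (V.radical_map_plus (a := m) (a' := m') hmsp hm'sp) I I' n
  let up : ∀ j : ℤ, I.Hcomp m n (j * V.q) → V.Obj (I.Hgr m n) 0 := fun j h =>
    ⟨h.1, V.mem_part_of_mem _ 0 j (by rw [add_zero]; exact h.2)⟩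
  have hup : ∀ j h, Θ (up j h) ∈ I'.Hcomp m' n j := fun j h =>
    hΘ j (up j h) (by show h.1 ∈ I.Hgr m n _; rw [add_zero]; exact h.2)
  -- the map on a homogeneous piece
  have key : ∀ (j : ℤ) (c : C'), ∃! x : GrLC.comp 𝒜 𝒞 (j * V.q),
      ∀ h : I.Hcomp m n ((-j) * V.q), β h.1 x.1 = ρ (β' (Θ (up (-j) h)) c) := fun j c =>
    Pairing.existsUnique_rep hpos h0 𝒞 hβ (by ring)
      { toFun := fun h => ρ (β' (Θ (up (-j) h)) c)
        map_add' := fun h h' => by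
          rw [show up (-j) (h + h') = up (-j) h + up (-j) h' from rfl, map_add, map_add,
            AddMonoidHom.add_apply, map_add]
        map_smul' := fun a h => by
          obtain ⟨a', rfl⟩ := ρ.surjective a
          rw [show up (-j) (ρ a' • h) = (a' : R') • up (-j) h from rfl, map_smul, hβ'.balanced,
            hβ'.linear, map_mul]
          rfl }
  choose g₀ hg₀ hg₀u using key
  have hg₀add : ∀ j c c', g₀ j (c + c') = g₀ j c + g₀ j c' := fun j c c' => (hg₀u j (c + c') _ fun h => by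
    rw [AddMemClass.coe_add, map_add, hg₀, hg₀, map_add, map_add]).symm
  let gp : C' →+ C := (DirectSum.toAddMonoid fun j => AddMonoidHom.mk' (fun c : 𝒞' j => (g₀ j c.1).1)
    fun x y => by rw [AddSubgroup.coe_add, hg₀add]; rfl).comp (decomposeAddEquiv 𝒞').toAddMonoidHom
  have hgp : ∀ j, ∀ c ∈ 𝒞' j, gp c = (g₀ j c).1 := fun j c hc => by
    rw [AddMonoidHom.comp_apply,
      show (decomposeAddEquiv 𝒞').toAddMonoidHom c = decompose 𝒞' c from rfl, decompose_of_mem 𝒞' hc,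
      DirectSum.toAddMonoid_of]
    rfl
  have hsm : ∀ (a : R') (c : C'), gp (a • c) = V.φ a • gp c := fun a c => by
    induction a using piece_induction 𝒜' with
    | h0 => simp
    | hadd a b ha hb => simp [add_smul, ha, hb]
    | hp i a ha =>
      induction c using piece_induction 𝒞' with
      | h0 => simp
      | hadd p p' hp hp' => simp [smul_add, hp, hp']
      | hp k c hc =>
        rw [hgp (i + k) _ (smul_mem_add 𝒜' 𝒞' ha hc), hgp k c hc]
        have hmem : V.φ a • (g₀ k c).1 ∈ 𝒞 ((i + k) * V.q) := by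
          have := smul_mem_add 𝒜 𝒞 (V.φ_mem ha) (g₀ k c).2
          rwa [show i * (V.q : ℤ) + k * V.q = (i + k) * V.q by ring] at this
        refine (congrArg Subtype.val (hg₀u (i + k) (a • c) ⟨_, hmem⟩ fun h => ?_)).symm
        have hmem' : V.φ a • h.1 ∈ I.Hcomp m n ((-k) * V.q) := by
          have := smul_mem_add 𝒜 (I.Hgr m n) (V.φ_mem ha) (h.2 : h.1 ∈ I.Hgr m n _)
          rwa [show i * (V.q : ℤ) + (-(i + k)) * V.q = (-k) * V.q by ring] at this
        show β h.1 (V.φ a • (g₀ k c).1) = _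
        rw [← hβ.balanced, ← hβ'.balanced, ← map_smul Θ]
        exact hg₀ k c ⟨_, hmem'⟩
  refine ⟨{ gp with map_smul' := hsm }, ?_, fun j => le_antisymm ?_ fun x hx => ?_⟩
  · refine (injective_iff_map_eq_zero gp).2 fun c hc => eq_zero_of_cmp 𝒞' fun k => ?_
    have hall : ∀ c, cmp 𝒞 (k * V.q) (gp c) = gp (cmp 𝒞' k c) := fun c => by
      induction c using piece_induction 𝒞' with
      | h0 => simp
      | hadd p p' hp hp' => simp [hp, hp']
      | hp i p hp =>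
        by_cases hik : i = k
        · subst hik
          rw [cmp_of_mem 𝒞' hp, hgp i p hp, cmp_of_mem 𝒞 (g₀ i p).2]
        · rw [cmp_of_ne 𝒞' hp hik, map_zero, hgp i p hp, cmp_of_ne 𝒞 (g₀ i p).2 fun h =>
            hik (V.mul_add_injective 0 (by simpa using h))]
    have hcmp := hall c
    rw [hc, map_zero, hgp k _ (cmp_mem 𝒞' k c)] at hcmp
    obtain ⟨x', -, hu⟩ := Pairing.existsUnique_rep hn' h0' 𝒞' hβ' (neg_add_cancel k)
      (0 : I'.Hcomp m' n (-k) →ₗ[deg0 𝒜'] deg0 𝒜')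
    have hz := hu ⟨_, cmp_mem 𝒞' k c⟩ fun h => ρ.injective (by
      obtain ⟨y, hy⟩ : ∃ y : I.Hcomp m n ((-k) * V.q), Θ (up (-k) y) = h.1 :=
        ⟨⟨V.val _ (Θ.symm h.1), by
          have h3 : V.val (I.Hgr m n) (Θ.symm h.1) ∈ I.Hgr m n ((-k) * V.q + 0) := hΘ' (-k) _ h.2
          rwa [add_zero] at h3⟩, Θ.apply_symm_apply h.1⟩
      show ρ (β' h.1 (cmp 𝒞' k c)) = ρ 0
      rw [← hy, ← hg₀ k, ← hcmp, map_zero, map_zero])
    have hz' := hu 0 fun h => by simp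
    exact congrArg Subtype.val (hz.trans hz'.symm)
  · rintro _ ⟨c, hc, rfl⟩
    show gp c ∈ _
    rw [hgp j c hc]
    exact (g₀ j c).2
  · obtain ⟨c, hc, -⟩ := Pairing.existsUnique_rep hn' h0' 𝒞' hβ' (neg_add_cancel j)
      { toFun := fun h' => ρ.symm (β (V.val _ (Θ.symm h'.1)) x)
        map_add' := fun h h' => by
          rw [Submodule.coe_add, map_add, V.val_add, map_add, AddMonoidHom.add_apply, map_add]
        map_smul' := fun a h => by
          rw [show (a • h).1 = (a : R') • h.1 from rfl, map_smul, V.val_smul, hβ.balanced, ← hρ,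
            hβ.linear, map_mul, RingEquiv.symm_apply_apply]
          rfl }
    refine ⟨c.1, c.2, ?_⟩
    show gp c.1 = x
    rw [hgp j c.1 c.2]
    refine (congrArg Subtype.val (hg₀u j c.1 ⟨x, hx⟩ fun h => ?_)).symm
    refine Eq.trans ?_ (congrArg ρ (hc ⟨_, hup (-j) h⟩)).symm
    show β h.1 x = ρ (ρ.symm (β (V.val _ (Θ.symm (Θ (up (-j) h)))) x))
    rw [ρ.apply_symm_apply, Θ.symm_apply_apply]
    rfl

end Groth.Agent.GrMod19
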