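import Groth.Agent.GrMod19.Ver.Acyclic
import Groth.Agent.GrMod19.Coarse
import Mathlib.LinearAlgebra.Dimension.Finrank

/-!
Graded local cohomology of Veronese parts.
-/

universe u

open DirectSum

namespace Groth.Agent.GrMod19.Vero

set_option autoImplicit false

variable {R R' : Type u} [CommRing R] [CommRing R'] {𝒜 : ℤ → AddSubgroup R} [GradedRing 𝒜]
  {𝒜' : ℤ → AddSubgroup R'} [GradedRing 𝒜'] (V : Vero 𝒜 𝒜')
  (a : HomogeneousIdeal 𝒜) (a' : HomogeneousIdeal 𝒜')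

/-- the Veronese part of the cocycles -/
noncomputable def cocycPart {M : Type u} [AddCommGroup M] [Module R M] {ℳ : ℤ → AddSubgroup M}
    [Decomposition ℳ] [SetLike.GradedSMul 𝒜 ℳ] (E : GrLC.StarInjRes 𝒜 ℳ) (r : ℤ) (i : ℕ) :
    Submodule R' (V.Obj (E.X i).gr r) where
  carrier := {z | V.val (E.X i).gr z ∈ E.cocyc a i}
  zero_mem' := (E.cocyc a i).zero_mem
  add_mem' hx hy := (E.cocyc a i).add_mem hx hy
  smul_mem' c _ hx := (E.cocyc a i).smul_mem (V.φ c) hx

/-- the comparison statement -/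
def VerData (a : HomogeneousIdeal 𝒜) (a' : HomogeneousIdeal 𝒜') {M : Type u} [AddCommGroup M] [Module R M] {ℳ : ℤ → AddSubgroup M}
    [Decomposition ℳ] [SetLike.GradedSMul 𝒜 ℳ] (r : ℤ) (E : GrLC.StarInjRes 𝒜 ℳ)
    (F : GrLC.StarInjRes 𝒜' (V.piece ℳ r)) (i : ℕ) : Prop :=
  ∃ θ : V.cocycPart a E r i →ₗ[R'] F.H a' i, Function.Surjective θ ∧
    (∀ z : V.cocycPart a E r i, θ z = 0 ↔ V.val (E.X i).gr z.1 ∈ E.cobdy a i) ∧
    ∀ (j : ℤ) (z : V.cocycPart a E r i), V.val (E.X i).gr z.1 ∈ (E.X i).gr (j * V.q + r) →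
      θ z ∈ F.Hgr a' i j

variable {a a'} (ha : (a'.toIdeal.map V.φ).radical = a.toIdeal.radical) [IsNoetherianRing R]
include ha

lemma ver_zero {M : Type u} [AddCommGroup M] [Module R M] {ℳ : ℤ → AddSubgroup M}
    [Decomposition ℳ] [SetLike.GradedSMul 𝒜 ℳ] (r : ℤ) (E : GrLC.StarInjRes 𝒜 ℳ)
    (F : GrLC.StarInjRes 𝒜' (V.piece ℳ r)) : V.VerData a a' r E F 0 := by
  let c : GrLC.gam a'.toIdeal (V.Obj ℳ r) →ₗ[R'] V.cocycPart a E r 0 :=
    LinearMap.codRestrict _ (V.map ℳ (E.X 0).gr E.ε_grHom r ∘ₗ (GrLC.gam a'.toIdeal (V.Obj ℳ r)).subtype)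
      fun x => ⟨ChainMap.map_gam E.ε _ ((V.mem_gam_iff ℳ ha x.1).1 x.2), d_comp_ε E _⟩
  have hci : Function.Injective c := fun x y h => Subtype.ext (V.val_injective ℳ r (E.ε_injective
    (congrArg (fun z : V.cocycPart a E r 0 => V.val (E.X 0).gr z.1) h)))
  have hcs : Function.Surjective c := fun z => by
    obtain ⟨h1, h2⟩ := z.2
    rw [E.exact_zero] at h2
    obtain ⟨m, hm⟩ := h2
    obtain ⟨x, hx⟩ := V.exists_val_map ℳ (E.X 0).gr E.ε_grHom z.1 hm
    refine ⟨⟨x, (V.mem_gam_iff ℳ ha x).2 ?_⟩, Subtype.ext hx⟩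
    obtain ⟨k, hk⟩ := h1
    refine ⟨k, fun t ht => E.ε_injective ?_⟩
    rw [map_zero, map_smul, ← V.val_map ℳ (E.X 0).gr E.ε_grHom, hx]
    exact hk t ht
  let e := LinearEquiv.ofBijective c ⟨hci, hcs⟩
  have hzs : Function.Surjective (zeroMap F a') := fun x => by
    obtain ⟨⟨z, hz1, hz2⟩, rfl⟩ := Submodule.mkQ_surjective _ x
    rw [F.exact_zero] at hz2
    obtain ⟨m, rfl⟩ := hz2
    obtain ⟨k, hk⟩ := hz1
    exact ⟨⟨m, k, fun r hr => F.ε_injective (by rw [map_smul, hk r hr, map_zero])⟩, rfl⟩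
  refine ⟨zeroMap F a' ∘ₗ e.symm.toLinearMap, hzs.comp e.symm.surjective, fun z => ?_, fun j z hz => ?_⟩
  · show zeroMap F a' (e.symm z) = 0 ↔ V.val (E.X 0).gr z.1 ∈ (⊥ : Submodule R (E.X 0).carrier)
    rw [Submodule.mem_bot, ← map_zero (zeroMap F a'), (zeroMap_injective F a').eq_iff,
      e.symm.map_eq_zero_iff]
    exact ⟨fun h => by rw [h]; rfl, fun h => Subtype.ext (V.val_injective _ r h)⟩
  · refine zeroMap_mem F a' ?_
    obtain ⟨x, rfl⟩ := e.surjective z
    rw [show e.symm.toLinearMap (e x) = x from e.symm_apply_apply x]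
    have h1 : cmp ℳ (j * V.q + r) (V.val ℳ x.1) = V.val ℳ x.1 := E.ε_injective (by
      rw [map_cmp ℳ (E.X 0).gr E.ε_grHom]
      exact cmp_of_mem _ hz)
    exact (h1 ▸ cmp_mem ℳ _ _ : V.val ℳ x.1 ∈ ℳ (j * V.q + r))

/-- the comparison in every degree -/
theorem verData [IsNoetherianRing R'] : ∀ (i : ℕ) (M : Type u) [AddCommGroup M] [Module R M]
    (ℳ : ℤ → AddSubgroup M) [Decomposition ℳ] [SetLike.GradedSMul 𝒜 ℳ] (r : ℤ)
    (E : GrLC.StarInjRes 𝒜 ℳ) (F : GrLC.StarInjRes 𝒜' (V.piece ℳ r)), V.VerData a a' r E F i := by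
  intro i
  induction i with
  | zero => exact fun M _ _ ℳ _ _ r E F => V.ver_zero ha r E F
  | succ i ih =>
    intro M _ _ ℳ _ _ r E F
    let Z := LinearMap.ker (E.d 1)
    let 𝒵 := GrInj18.subGr (E.X 1).gr Z
    let : Decomposition 𝒵 :=
      (GrInj18.subGr_isInternal _ (isHomogeneous_ker _ _ (E.d_grHom 1))).chooseDecomposition
    obtain ⟨G⟩ := GrInj18.nonempty_starInjRes 𝒜' (V.piece (E.X 0).gr r)
    obtain ⟨K⟩ := GrInj18.nonempty_starInjRes 𝒜' (V.piece 𝒵 r)
    let q₀ : (E.X 0).carrier →ₗ[R] Z := (E.d 0).codRestrict Z fun x => d_comp_d E 0 x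
    have hq₀ : GrLC.IsGrHom (E.X 0).gr 𝒵 q₀ := fun g x hx => E.d_grHom 0 g x hx
    have S : Ses (V.piece ℳ r) (V.piece (E.X 0).gr r) (V.piece 𝒵 r)
        (V.map ℳ (E.X 0).gr E.ε_grHom r) (V.map (E.X 0).gr 𝒵 hq₀ r) 0 :=
      { hf := isGrHomDeg_zero_iff.2 (V.isGrHom_map ℳ _ E.ε_grHom r)
        hg := V.isGrHom_map _ _ hq₀ r
        inj := fun x y h => V.val_injective ℳ r (E.ε_injective (congrArg (V.val (E.X 0).gr) h))
        exact := fun x => by
          constructor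
          · intro hx
            have : V.val (E.X 0).gr x ∈ LinearMap.range E.ε := by
              rw [← E.exact_zero]
              exact congrArg (fun z => ((V.val 𝒵 z : Z) : (E.X 1).carrier)) hx
            obtain ⟨y, hy⟩ := this
            exact V.exists_val_map ℳ _ E.ε_grHom x hy
          · rintro ⟨y, rfl⟩
            exact V.val_injective 𝒵 r (Subtype.ext (d_comp_ε E _))
        surj := fun z => by
          have hz : ((V.val 𝒵 z : Z) : (E.X 1).carrier) ∈ LinearMap.range (E.d 0) := by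
            rw [← E.exact_succ]; exact (V.val 𝒵 z : Z).2
          obtain ⟨x, hx⟩ := hz
          exact V.exists_val_map _ 𝒵 hq₀ z (Subtype.ext hx) }
    obtain ⟨δ, hδ, -, hex, hex', -⟩ := exists_les F G K S a'
    have hX : ∀ j, 0 < j → Subsingleton (G.H a' j) := fun j hj => by
      obtain ⟨e⟩ := nonempty_H_equiv G a' j
      have := V.subsingleton_H_obj (E.X 0).gr (a' := a') (E.starInj 0) r hj
      exact e.toEquiv.subsingleton
    have hδsurj : Function.Surjective (δ i) := fun y => by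
      have := hX (i + 1) (Nat.succ_pos i)
      exact (hex' i y).1 (Subsingleton.elim _ _)
    -- passing from the kernel to the ambient piece
    let toZ : ∀ z : V.Obj (E.X 1).gr r, V.val (E.X 1).gr z ∈ Z → V.Obj 𝒵 r := fun z hz =>
      ⟨⟨V.val (E.X 1).gr z, hz⟩, Subtype.ext (by
        rw [show ((V.proj 𝒵 r ⟨_, hz⟩ : Z) : (E.X 1).carrier) = V.proj (E.X 1).gr r (V.val (E.X 1).gr z)
          from V.map_proj (f := Z.subtype) (fun g w hw => hw) r _]
        exact Subtype.prop z)⟩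
    cases i with
    | succ j =>
      obtain ⟨θ, hθ, hθk, hθg⟩ := ih Z 𝒵 r (shiftRes E) K
      let θ' : V.cocycPart a E r (j + 1 + 1) →ₗ[R'] K.H a' (j + 1) := θ
      refine ⟨δ (j + 1) ∘ₗ θ', hδsurj.comp hθ, fun z => ?_, fun g z hz => ?_⟩
      · have hδinj : Function.Injective (δ (j + 1)) := by
          rw [injective_iff_map_eq_zero]
          intro y hy
          obtain ⟨w, rfl⟩ := (hex (j + 1) y).1 hy
          have := hX (j + 1) (Nat.succ_pos j)
          rw [Subsingleton.elim w 0, map_zero]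
        rw [LinearMap.comp_apply, ← map_zero (δ (j + 1)), hδinj.eq_iff]
        exact hθk z
      · have := hδ (j + 1) g _ (hθg g z hz)
        rwa [neg_zero, add_zero] at this
    | zero =>
      let c : V.cocycPart a E r 1 →ₗ[R'] GrLC.gam a'.toIdeal (V.Obj 𝒵 r) :=
        { toFun := fun z => ⟨toZ z.1 z.2.2, (V.mem_gam_iff 𝒵 ha _).2 (by
            obtain ⟨k, hk⟩ := z.2.1
            exact ⟨k, fun t ht => Subtype.ext (hk t ht)⟩)⟩
          map_add' := fun _ _ => rfl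
          map_smul' := fun _ _ => rfl }
      have hc : Function.Surjective c := fun w => by
        obtain ⟨k, hk⟩ := (V.mem_gam_iff 𝒵 ha w.1).1 w.2
        refine ⟨⟨V.map 𝒵 (E.X 1).gr (f := Z.subtype) (fun g x hx => hx) r w.1,
          ⟨k, fun t ht => congrArg Subtype.val (hk t ht)⟩, (V.val 𝒵 w.1 : Z).2⟩,
          Subtype.ext (V.val_injective 𝒵 r (Subtype.ext rfl))⟩
      have hzs : ∀ {N : Type u} [AddCommGroup N] [Module R' N] {𝒩 : ℤ → AddSubgroup N} [Decomposition 𝒩]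
          [SetLike.GradedSMul 𝒜' 𝒩] (D : GrLC.StarInjRes 𝒜' 𝒩), Function.Surjective (zeroMap D a') := by
        intro N _ _ 𝒩 _ _ D x
        obtain ⟨⟨z, hz1, hz2⟩, rfl⟩ := Submodule.mkQ_surjective _ x
        rw [D.exact_zero] at hz2
        obtain ⟨m, rfl⟩ := hz2
        obtain ⟨k, hk⟩ := hz1
        exact ⟨⟨m, k, fun r hr => D.ε_injective (by rw [map_smul, hk r hr, map_zero])⟩, rfl⟩
      refine ⟨δ 0 ∘ₗ zeroMap K a' ∘ₗ c, hδsurj.comp ((hzs K).comp hc), fun z => ?_, fun g z hz => ?_⟩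
      swap
      · have hz' : zeroMap K a' (c z) ∈ K.Hcomp a' 0 g := zeroMap_mem K a' hz
        have := hδ 0 g _ hz'
        rwa [neg_zero, add_zero] at this
      rw [LinearMap.comp_apply, LinearMap.comp_apply, hex 0]
      constructor
      · rintro ⟨y, hy⟩
        obtain ⟨w, rfl⟩ := hzs G y
        rw [hMap_zeroMap] at hy
        refine ⟨V.val (E.X 0).gr w.1, (V.mem_gam_iff _ ha w.1).1 w.2, ?_⟩
        exact congrArg (fun v : GrLC.gam a'.toIdeal (V.Obj 𝒵 r) => ((V.val 𝒵 v.1 : Z) : (E.X 1).carrier))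
          (zeroMap_injective K a' hy)
      · rintro ⟨w, hw, hwz⟩
        obtain ⟨k, hk⟩ := hw
        let w' : V.Obj (E.X 0).gr r := ⟨V.proj (E.X 0).gr r w, V.proj_mem_part _ r w⟩
        have hw' : w' ∈ GrLC.gam a'.toIdeal (V.Obj (E.X 0).gr r) := by
          refine (V.mem_gam_iff _ ha w').2 ?_
          show V.proj (E.X 0).gr r w ∈ GrLC.gam a.toIdeal _
          have hh := isHomogeneous_gam (ℳ := (E.X 0).gr) a
          obtain ⟨t, ht⟩ := exists_sum_cmp (E.X 0).gr w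
          rw [← ht, map_sum]
          refine sum_mem fun d _ => ?_
          rw [proj_of_mem V _ r (cmp_mem _ d w)]
          split_ifs
          · exact hh d ⟨k, hk⟩
          · exact zero_mem _
        refine ⟨zeroMap G a' ⟨w', hw'⟩, ?_⟩
        rw [hMap_zeroMap]
        refine congrArg (zeroMap K a') (Subtype.ext (V.val_injective 𝒵 r (Subtype.ext ?_)))
        show E.d 0 (V.proj (E.X 0).gr r w) = V.val (E.X 1).gr z.1
        rw [V.map_proj (E.d_grHom 0), hwz]
        exact Subtype.prop z.1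

end Groth.Agent.GrMod19.Vero
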