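import Groth.Agent.GrMod19.Ver.Dual
import Groth.Agent.GrMod19.Ver.Gor
import Groth.Agent.GrMod19.Gor.GorPair
import Groth.Agent.GrMod19.Gor.RegPair
import Groth.Agent.GrMod19.Gor.Gens
import Groth.Agent.GrInj18.Res
import Mathlib.LinearAlgebra.Dual.Lemmas

/-!
A perfect pairing for a standard graded ring whose Veronese subring is Gorenstein.
-/

universe u

open DirectSum GrLC

namespace Groth.Agent.GrMod19.Vero

set_option autoImplicit false

variable {R R' : Type u} [CommRing R] [CommRing R'] {𝒜 : ℤ → AddSubgroup R} [GradedRing 𝒜]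
  {𝒜' : ℤ → AddSubgroup R'} [GradedRing 𝒜']

/-- an element killed by a piece is killed by the higher pieces -/
theorem smul_eq_zero_of_piece {M : Type u} [AddCommGroup M] [Module R M]
    (hstd : Ideal.span (⋃ k ∈ Set.Ioi (0 : ℤ), (𝒜 k : Set R)) = Ideal.span ((𝒜 1 : AddSubgroup R) : Set R))
    {i N : ℤ} (hi : 0 ≤ i) (hiN : i ≤ N) {h : M} (hh : ∀ u ∈ 𝒜 i, u • h = 0) {z : R} (hz : z ∈ 𝒜 N) :
    z • h = 0 := by
  obtain ⟨t, rfl⟩ : ∃ t : ℕ, (t : ℤ) = i := ⟨i.toNat, Int.toNat_of_nonneg hi⟩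
  have hcl := mem_closure_mul hstd t (N - t) (by omega) z (by rwa [add_sub_cancel])
  induction hcl using AddSubgroup.closure_induction with
  | mem s hs =>
    obtain ⟨u, hu, v, -, rfl⟩ := hs
    rw [mul_comm, mul_smul, hh u hu, smul_zero]
  | zero => exact zero_smul R h
  | add p p' hp0 hp0' hp hp' =>
    have hmem : ∀ s ∈ AddSubgroup.closure {z | ∃ u ∈ 𝒜 (t : ℤ), ∃ v ∈ 𝒜 (N - t), u * v = z}, s ∈ 𝒜 N :=
      fun s hs => (AddSubgroup.closure_le _).2 (by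
        rintro _ ⟨u, hu, v, hv, rfl⟩
        exact add_sub_cancel (t : ℤ) N ▸ SetLike.GradedMul.mul_mem hu hv) hs
    rw [add_smul, hp (hmem p hp0), hp' (hmem p' hp0'), add_zero]
  | neg p _ hp => rw [neg_smul, hp (by simpa using neg_mem hz), neg_zero]

/-- a functional on a module, pairing its pieces of degree divisible by `q` perfectly with those of the ring -/
structure IsDivPerfect {H : Type u} [AddCommGroup H] [Module R H] (ℋ : ℤ → Submodule (deg0 𝒜) H)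
    (q a : ℤ) (μ : H →+ deg0 𝒜) : Prop where
  dvd : q ∣ a
  smul_mem : ∀ (i d : ℤ) (r : R), r ∈ 𝒜 i → ∀ h ∈ ℋ d, r • h ∈ ℋ (i + d)
  vanish : ∀ g, g ≠ a → ∀ x ∈ ℋ g, μ x = 0
  linear : ∀ (c : deg0 𝒜) (x : H), μ ((c : R) • x) = c * μ x
  unique : ∀ d, q ∣ d → ∀ h ∈ ℋ d, (∀ r ∈ 𝒜 (a - d), μ (r • h) = 0) → h = 0
  detect : ∀ d, q ∣ d → ∀ r ∈ 𝒜 (a - d), r ≠ 0 → ∃ g ∈ ℋ d, μ (r • g) ≠ 0

section Generic

variable {H : Type u} [AddCommGroup H] [Module R H] {ℋ : ℤ → Submodule (deg0 𝒜) H} {q a : ℤ}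
  {μ : H →+ deg0 𝒜}
  (hstd : Ideal.span (⋃ k ∈ Set.Ioi (0 : ℤ), (𝒜 k : Set R)) = Ideal.span ((𝒜 1 : AddSubgroup R) : Set R))
include hstd

/-- what pairs to zero is killed by the pieces of positive degree divisible by `q` -/
theorem IsDivPerfect.kill (hμ : IsDivPerfect ℋ q a μ) (hq : 0 < q) {d : ℤ} {h : H} (hh : h ∈ ℋ d)
    (hK : ∀ r ∈ 𝒜 (a - d), μ (r • h) = 0) {N : ℤ} (hN : 0 < N) (hqN : q ∣ N) {z : R} (hz : z ∈ 𝒜 N) :
    z • h = 0 := by
  refine smul_eq_zero_of_piece hstd (Int.emod_nonneg (-d) hq.ne') ?_ (fun u hu => ?_) hz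
  · exact (Int.emod_lt_of_pos (-d) hq).le.trans (Int.le_of_dvd hN hqN)
  · refine hμ.unique _ ?_ _ (hμ.smul_mem _ _ u hu h hh) fun r hr => ?_
    · have h1 : q ∣ -d - (-d) % q := Int.dvd_self_sub_emod
      rw [show -d % q + d = -(-d - (-d) % q) by ring]
      exact dvd_neg.2 h1
    · rw [← mul_smul]
      refine hK _ ?_
      have h1 := SetLike.GradedMul.mul_mem hr hu
      rwa [show a - (-d % q + d) + -d % q = a - d by ring] at h1

/-- every functional on a piece is a multiplication -/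
theorem IsDivPerfect.onto (hμ : IsDivPerfect ℋ q a μ) (hq : 0 < q) (h0 : IsField (deg0 𝒜)) {x : R}
    {N : ℤ} (hN : 0 < N) (hqN : q ∣ N) (hx : x ∈ 𝒜 N) (hxr : IsSMulRegular R x) (d : ℤ)
    [Module.Finite (deg0 𝒜) (GrLC.comp 𝒜 𝒜 (a - d))]
    (F : GrLC.comp 𝒜 𝒜 (a - d) →ₗ[deg0 𝒜] deg0 𝒜) :
    ∃ h ∈ ℋ d, ∀ r : GrLC.comp 𝒜 𝒜 (a - d), μ ((r : R) • h) = F r := by
  let : Field (deg0 𝒜) := h0.toField
  let L : ℋ d →ₗ[deg0 𝒜] Module.Dual (deg0 𝒜) (GrLC.comp 𝒜 𝒜 (a - d)) :=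
    { toFun := fun h =>
        { toFun := fun r => μ ((r : R) • (h : H))
          map_add' := fun r r' => (congrArg μ (add_smul (r : R) r' (h : H))).trans (map_add μ _ _)
          map_smul' := fun c r => (congrArg μ (mul_smul (c : R) (r : R) (h : H))).trans (hμ.linear c _) }
      map_add' := fun h h' => LinearMap.ext fun r =>
        (congrArg μ (smul_add (r : R) (h : H) h')).trans (map_add μ _ _)
      map_smul' := fun c h => LinearMap.ext fun r =>
        (congrArg μ (smul_comm (r : R) (c : R) (h : H))).trans (hμ.linear c _) }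
  have hco : (LinearMap.range L).dualCoannihilator = ⊥ := by
    refine (Submodule.eq_bot_iff _).2 fun r hr => ?_
    rw [Submodule.mem_dualCoannihilator] at hr
    let i := (-(a - d)) % q
    refine Subtype.ext (hxr (show x • (r : R) = x • (0 : R) from ?_))
    rw [smul_zero]
    refine smul_eq_zero_of_piece hstd (Int.emod_nonneg (-(a - d)) hq.ne') ((Int.emod_lt_of_pos (-(a - d)) hq).le.trans
      (Int.le_of_dvd hN hqN)) (fun u hu => ?_) hx
    by_contra hne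
    have hdv : q ∣ d - i := by
      have h1 : q ∣ -(a - d) - i := Int.dvd_self_sub_emod
      have h2 := hμ.dvd.add h1
      rwa [show a + (-(a - d) - i) = d - i by ring] at h2
    have hur : u * (r : R) ∈ 𝒜 (a - (d - i)) := by
      have h1 := SetLike.GradedMul.mul_mem hu r.2
      rwa [show -(a - d) % q + (a - d) = a - (d - i) by ring] at h1
    obtain ⟨g, hg, hμg⟩ := hμ.detect _ hdv _ hur hne
    have hug : u • g ∈ ℋ d := by
      have h1 := hμ.smul_mem _ _ u hu g hg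
      rwa [show -(a - d) % q + (d - i) = d by ring] at h1
    refine hμg ?_
    rw [mul_comm, mul_smul]
    exact hr _ ⟨⟨_, hug⟩, rfl⟩
  obtain ⟨h, hh⟩ : F ∈ LinearMap.range L := by
    rw [← Subspace.dualCoannihilator_dualAnnihilator_eq (W := LinearMap.range L), hco]
    simp
  exact ⟨h, h.2, fun r => LinearMap.congr_fun hh r⟩

/-- with two elements acting surjectively, nothing pairs to zero -/
theorem IsDivPerfect.eq_zero (hμ : IsDivPerfect ℋ q a μ) (hq : 0 < q) (h0 : IsField (deg0 𝒜)) {x y : R}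
    {N N' : ℤ} (hN : 0 < N) (hN' : 0 < N') (hqN : q ∣ N) (hqN' : q ∣ N') (hx : x ∈ 𝒜 N) (hy : y ∈ 𝒜 N')
    (hxr : IsSMulRegular R x) (hyr : ∀ r, y * r ∈ Ideal.span {x} → r ∈ Ideal.span {x})
    [∀ k, Module.Finite (deg0 𝒜) (GrLC.comp 𝒜 𝒜 k)]
    (hxs : ∀ d, ∀ k ∈ ℋ d, ∃ g ∈ ℋ (d - N), x • g = k) {d : ℤ} {h : H} (hh : h ∈ ℋ d)
    (hK : ∀ r ∈ 𝒜 (a - d), μ (r • h) = 0) : h = 0 := by
  let : Field (deg0 𝒜) := h0.toField
  obtain ⟨g, hg, rfl⟩ := hxs d h hh
  let Fg : GrLC.comp 𝒜 𝒜 (a - (d - N)) →ₗ[deg0 𝒜] deg0 𝒜 :=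
    { toFun := fun r => μ ((r : R) • g)
      map_add' := fun r r' => (congrArg μ (add_smul (r : R) r' g)).trans (map_add μ _ _)
      map_smul' := fun c r => (congrArg μ (mul_smul (c : R) (r : R) g)).trans (hμ.linear c _) }
  let Y : GrLC.comp 𝒜 𝒜 (a - (d - N)) →ₗ[deg0 𝒜] GrLC.comp 𝒜 𝒜 (a - (d - N - N')) :=
    { toFun := fun r => ⟨y * (r : R), by
        have h1 := SetLike.GradedMul.mul_mem hy r.2
        rwa [show N' + (a - (d - N)) = a - (d - N - N') by ring] at h1⟩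
      map_add' := fun r r' => Subtype.ext (mul_add y (r : R) r')
      map_smul' := fun c r => Subtype.ext (mul_left_comm y (c : R) (r : R)) }
  let W : Submodule (deg0 𝒜) (GrLC.comp 𝒜 𝒜 (a - (d - N - N'))) :=
    { carrier := {w | (w : R) ∈ Ideal.span {x}}
      add_mem' := fun hp hp' => Ideal.add_mem (Ideal.span {x}) hp hp'
      zero_mem' := Ideal.zero_mem (Ideal.span {x})
      smul_mem' := fun c w hw => Ideal.mul_mem_left (Ideal.span {x}) (c : R) hw }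
  have hker : LinearMap.ker (W.mkQ ∘ₗ Y) ≤ LinearMap.ker Fg := fun r hr => by
    rw [LinearMap.mem_ker, LinearMap.comp_apply, Submodule.mkQ_apply, Submodule.Quotient.mk_eq_zero] at hr
    obtain ⟨s, hs⟩ := Ideal.mem_span_singleton'.1 (hyr _ hr)
    show μ ((r : R) • g) = 0
    have h4 := cmp_smul_homog_right 𝒜 𝒜 (a - (d - N)) hx s
    rw [smul_eq_mul, hs, cmp_of_mem 𝒜 (show (r : R) ∈ 𝒜 (a - (d - N)) from r.2), smul_eq_mul] at h4
    rw [h4, mul_smul]
    refine hK _ ?_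
    rw [show a - d = a - (d - N) - N by ring]
    exact cmp_mem 𝒜 _ s
  obtain ⟨G', hG'⟩ : Fg ∈ LinearMap.range (W.mkQ ∘ₗ Y).dualMap := by
    rw [LinearMap.range_dualMap_eq_dualAnnihilator_ker, Submodule.mem_dualAnnihilator]
    exact fun r hr => hker hr
  obtain ⟨h', hh', hG⟩ := hμ.onto hstd hq h0 hN hqN hx hxr (d - N - N') (G' ∘ₗ W.mkQ)
  have hKxh' : ∀ r ∈ 𝒜 (a - (N + (d - N - N'))), μ (r • x • h') = 0 := fun r hr => by
    have hrx : r * x ∈ 𝒜 (a - (d - N - N')) := by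
      have h1 := SetLike.GradedMul.mul_mem hr hx
      rwa [show a - (N + (d - N - N')) + N = a - (d - N - N') by ring] at h1
    rw [smul_smul, hG ⟨_, hrx⟩, LinearMap.comp_apply, Submodule.mkQ_apply,
      (Submodule.Quotient.mk_eq_zero W).2 (Ideal.mul_mem_left _ r (Ideal.mem_span_singleton_self x)), map_zero]
  have hKg : ∀ r ∈ 𝒜 (a - (d - N)), μ (r • (g - y • h')) = 0 := fun r hr => by
    rw [smul_sub, map_sub, smul_smul, mul_comm]
    exact sub_eq_zero.2 ((LinearMap.congr_fun hG' ⟨r, hr⟩).symm.trans (hG (Y ⟨r, hr⟩)).symm)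
  have hgy : g - y • h' ∈ ℋ (d - N) := sub_mem hg (by
    have h1 := hμ.smul_mem _ _ y hy h' hh'
    rwa [add_sub_cancel] at h1)
  have h6 := hμ.kill hstd hq hgy hKg hN hqN hx
  rw [smul_sub, sub_eq_zero, smul_comm] at h6
  rw [h6]
  exact hμ.kill hstd hq (hμ.smul_mem _ _ x hx h' hh') hKxh' hN' hqN' hy

end Generic

/-- if the Veronese subring is Gorenstein, its socle functional extends to the ring -/
theorem exists_isDivPerfect (V : Vero 𝒜 𝒜') [IsNoetherianRing R] [LocCoh.IsGorensteinRing R']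
    (hpn : NonnegGr 𝒜) (h0 : IsField (deg0 𝒜)) {m : HomogeneousIdeal 𝒜} (hma : IsPlus m) {n : ℕ}
    (hn : ringKrullDim R' = n) (I : StarInjRes 𝒜 𝒜) :
    ∃ (b : ℤ) (μ : I.H m n →+ deg0 𝒜), IsDivPerfect (I.Hcomp m n) (V.q : ℤ) (b * V.q) μ := by
  classical
  have := V.isNoetherianRing
  have hpn' := V.nonnegGr hpn
  obtain ⟨m', hm', hm'a⟩ := exists_star_plus hpn' (V.isField_deg0 h0)
  obtain ⟨I'⟩ := GrInj18.nonempty_starInjRes 𝒜' 𝒜'
  obtain ⟨b, β', hβ', -⟩ := Gor.exists_perfect_gor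
    (fun k hk => (AddSubgroup.eq_bot_iff_forall _).2 (hpn' k hk)) (V.isField_deg0 h0) hm' hm'a hn I'
  let : Decomposition (I.Hgr m n) := (isInternal_Hgr I m n).chooseDecomposition
  have hsm : ∀ (i d : ℤ) (r : R), r ∈ 𝒜 i → ∀ h ∈ I.Hcomp m n d, r • h ∈ I.Hcomp m n (i + d) :=
    fun i d r hr h hh => by rw [add_comm]; exact smul_mem_Hcomp I m n hr hh
  have : SetLike.GradedSMul 𝒜 (I.Hgr m n) := ⟨fun {i j} a x ha hx => hsm i j a ha x hx⟩
  obtain ⟨Θ, hΘ, hΘ'⟩ := V.exists_H_equiv_self (V.radical_map_plus hma hm'a) I I' n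
  let ρ := RingEquiv.ofBijective V.deg0Map V.deg0Map_bijective
  have hρ : ∀ a : deg0 𝒜', ((ρ a : deg0 𝒜) : R) = V.φ a.1 := fun a => rfl
  let C' := shift (GrMod19.self 𝒜') b
  let e1 : C'.carrier := (1 : R')
  have he1 : e1 ∈ C'.gr (-b) := by
    show (1 : R') ∈ 𝒜' (-b + b)
    rw [neg_add_cancel]
    exact SetLike.GradedOne.one_mem
  have hsm1 : ∀ c : C'.carrier, (show R' from c) • e1 = c := fun c => mul_one (show R' from c)
  let P : I.H m n →+ V.Obj (I.Hgr m n) 0 := AddMonoidHom.mk'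
    (fun x => (⟨V.proj (I.Hgr m n) 0 x, V.proj_mem_part (I.Hgr m n) 0 x⟩ : V.Obj (I.Hgr m n) 0))
    fun x y => V.val_injective (I.Hgr m n) 0 (map_add (V.proj (I.Hgr m n) 0) x y)
  have hP : ∀ (c : R') x, P (V.φ c • x) = c • P x := fun c x =>
    V.val_injective (I.Hgr m n) 0 (V.proj_smul (I.Hgr m n) 0 c x)
  have hPj : ∀ j, ∀ x ∈ I.Hcomp m n (j * V.q), Θ (P x) ∈ I'.Hcomp m' n j := fun j x hx => hΘ j _ (by
    show V.proj (I.Hgr m n) 0 x ∈ I.Hgr m n (j * V.q + 0)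
    rw [V.proj_of_mem (I.Hgr m n) 0 (d := j * V.q) hx, if_pos (by simp), add_zero]
    exact hx)
  let μ : I.H m n →+ deg0 𝒜 := AddMonoidHom.mk' (fun x => ρ (β' (Θ (P x)) e1))
    fun x y => by rw [map_add, map_add, map_add, AddMonoidHom.add_apply, map_add]
  have hρc : ∀ (c : C'.carrier) x, μ (V.φ (show R' from c) • x) = ρ (β' (Θ (P x)) c) := fun c x => by
    show ρ (β' (Θ (P (V.φ (show R' from c) • x))) e1) = _
    rw [hP, map_smul, hβ'.balanced, hsm1]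
  refine ⟨b, μ, dvd_mul_left _ _, hsm, fun g hg x hx => ?_, fun a x => ?_, ?_, ?_⟩
  · show ρ (β' (Θ (P x)) e1) = 0
    by_cases hd : (V.q : ℤ) ∣ g - 0
    · obtain ⟨j, hj⟩ := hd
      have hgj : g = j * V.q := by rw [mul_comm, ← hj, sub_zero]
      rw [hβ'.orth j (-b) _ (hPj j x (hgj ▸ hx)) e1 he1 fun h => hg (by
        rw [hgj, show j = b by omega]), map_zero]
    · have : P x = 0 := V.val_injective (I.Hgr m n) 0 (by
        show V.proj (I.Hgr m n) 0 x = 0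
        rw [V.proj_of_mem (I.Hgr m n) 0 (d := g) hx, if_neg hd])
      rw [this, map_zero, map_zero, AddMonoidHom.zero_apply, map_zero]
  · obtain ⟨a', rfl⟩ := ρ.surjective a
    show ρ (β' (Θ (P (V.φ (a' : R') • x))) e1) = ρ a' * ρ _
    rw [hP, map_smul, hβ'.balanced, hβ'.linear, map_mul]
  · rintro d ⟨j, rfl⟩ h hh hr
    rw [mul_comm] at hh hr
    have hz : Θ (P h) = 0 := hβ'.unique j _ (hPj j h hh) fun c hc => ρ.injective (by
      rw [map_zero, ← hρc c h]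
      refine hr _ ?_
      have h1 := V.φ_mem (j := -j + b) (c := (show R' from c)) hc
      rwa [show (-j + b) * (V.q : ℤ) = V.q * b - V.q * j by ring] at h1)
    have h2 : P h = 0 := Θ.injective (hz.trans (map_zero Θ).symm)
    have h3 : V.proj (I.Hgr m n) 0 h = 0 := congrArg (V.val (I.Hgr m n)) h2
    rwa [V.proj_of_mem (I.Hgr m n) 0 (d := j * V.q) hh, if_pos (by simp)] at h3
  · rintro d ⟨j, rfl⟩ r hr hne
    rw [mul_comm _ j, ← sub_mul, ← V.deg] at hr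
    obtain ⟨c, hc, rfl⟩ := hr
    have hc1 : (show C'.carrier from c) ∈ C'.gr (-j) := by
      show c ∈ 𝒜' (-j + b)
      rwa [neg_add_eq_sub]
    let : Field (deg0 𝒜') := (V.isField_deg0 h0).toField
    let k' := GrLC.comp 𝒜' C'.gr (-j)
    have hcne : (⟨show C'.carrier from c, hc1⟩ : k') ≠ 0 := fun h => hne (by
      have h' : c = 0 := congrArg (fun z : k' => (show R' from z.1)) h
      rw [h', map_zero])
    obtain ⟨F, hF⟩ : ∃ F : k' →ₗ[deg0 𝒜'] deg0 𝒜', F ⟨show C'.carrier from c, hc1⟩ ≠ 0 :=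
      not_forall.1 fun hall => hcne ((Module.forall_dual_apply_eq_zero_iff _ _).1 hall)
    obtain ⟨h', hh', hF'⟩ := hβ'.onto j F
    let g := V.val (I.Hgr m n) (Θ.symm h')
    have hg : g ∈ I.Hcomp m n (j * V.q + 0) := hΘ' j h' hh'
    have hPg : P g = Θ.symm h' := V.val_injective (I.Hgr m n) 0 (Subtype.prop (Θ.symm h'))
    refine ⟨g, by rw [mul_comm, ← add_zero (j * (V.q : ℤ))]; exact hg, fun h1 => hF ?_⟩
    have h2 : μ (V.φ (show R' from (show C'.carrier from c)) • g) = 0 := h1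
    rw [hρc, hPg, Θ.apply_symm_apply] at h2
    rw [← hF' ⟨show C'.carrier from c, hc1⟩]
    exact ρ.injective (h2.trans (map_zero ρ).symm)

/-- for a standard graded ring of dimension at least two, a Gorenstein Veronese subring gives duality -/
theorem exists_perfect_descend (V : Vero 𝒜 𝒜') [IsNoetherianRing R] [LocCoh.IsCohenMacaulayRing R]
    [LocCoh.IsGorensteinRing R'] (hpos : ∀ k : ℤ, k < 0 → 𝒜 k = ⊥) (h0 : IsField (deg0 𝒜))
    {m : HomogeneousIdeal 𝒜} (hm : IsStarLocal 𝒜 m) (hma : IsPlus m)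
    (hstd : Ideal.span (⋃ k ∈ Set.Ioi (0 : ℤ), (𝒜 k : Set R)) = Ideal.span ((𝒜 1 : AddSubgroup R) : Set R))
    {n : ℕ} (hn : ringKrullDim R = n) (h2 : 2 ≤ n) (I : StarInjRes 𝒜 𝒜) :
    ∃ (a : ℤ) (β : I.H m n →+ (shift (GrMod19.self 𝒜) a).carrier →+ deg0 𝒜),
      (V.q : ℤ) ∣ a ∧ Pairing.IsPerfect (shift (GrMod19.self 𝒜) a).gr (I.Hcomp m n) β := by
  classical
  have hpn : NonnegGr 𝒜 := fun k hk x hx => AddSubgroup.mem_bot.1 (hpos k hk ▸ hx)
  obtain ⟨b, μ, hμ⟩ := V.exists_isDivPerfect hpn h0 hma ((V.ringKrullDim_eq hpn).trans hn) I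
  have hq0 : (0 : ℤ) < V.q := Int.natCast_pos.2 V.pos
  obtain ⟨x, y, N, N', hN, hN', hqN, hqN', hx, hy, hxr, hyr, hxs, -⟩ :=
    Gor.exists_surjective_pair hpn hm hma hn h2 I V.pos
  have hfin : ∀ k, Module.Finite (deg0 𝒜) (GrLC.comp 𝒜 𝒜 k) := finite_ring_comp hpn hma
  let : Decomposition (I.Hgr m n) := (isInternal_Hgr I m n).chooseDecomposition
  have : SetLike.GradedSMul 𝒜 (I.Hgr m n) := ⟨fun {i j} a x ha hx => hμ.smul_mem i j a ha x hx⟩
  have hxs' : ∀ d, ∀ k ∈ I.Hcomp m n d, ∃ g ∈ I.Hcomp m n (d - N), x • g = k := fun d k hk => by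
    obtain ⟨g, hg⟩ := hxs k
    refine ⟨cmp (I.Hgr m n) (d - N) g, cmp_mem (I.Hgr m n) _ _, ?_⟩
    rw [← cmp_smul_homog_left 𝒜 (I.Hgr m n) d hx g, hg]
    exact cmp_of_mem (I.Hgr m n) hk
  let a : ℤ := b * V.q
  let β₀ : I.H m n →+ R →+ deg0 𝒜 := AddMonoidHom.mk'
    (fun h => AddMonoidHom.mk' (fun c => μ (c • h)) fun c c' =>
      (congrArg μ (add_smul c c' h)).trans (map_add μ _ _))
    fun h h' => AddMonoidHom.ext fun c => (congrArg μ (smul_add c h h')).trans (map_add μ _ _)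
  refine ⟨a, β₀, hμ.dvd, ⟨fun c h r => ?_, fun c h r => ?_, fun d g h hh r hr hne => ?_,
    fun d h hh hK => ?_, fun d F => ?_⟩⟩
  · show μ ((show R from r) • c • h) = μ ((c * (show R from r)) • h)
    rw [mul_comm, mul_smul]
  · show μ (((c : R) * (show R from r)) • h) = c * μ _
    rw [mul_smul, hμ.linear]
  · exact hμ.vanish (g + a + d) (fun e => hne (by linarith)) _
      (hμ.smul_mem _ _ (show R from r) hr h hh)
  · refine hμ.eq_zero hstd hq0 h0 hN hN' hqN hqN' hx hy hxr hyr hxs' hh fun r hr => hK r ?_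
    show r ∈ 𝒜 (-d + a)
    rwa [neg_add_eq_sub]
  · have hcast : ∀ {r : R}, r ∈ 𝒜 (a - d) →
        (show (shift (GrMod19.self 𝒜) a).carrier from r) ∈ (shift (GrMod19.self 𝒜) a).gr (-d) :=
      fun {r} hr => by
        show r ∈ 𝒜 (-d + a)
        rwa [neg_add_eq_sub]
    obtain ⟨h, hh, hF⟩ := hμ.onto hstd hq0 h0 hN hqN hx hxr d
      { toFun := fun r => F ⟨(r : R), hcast r.2⟩
        map_add' := fun r r' => map_add F ⟨(r : R), hcast r.2⟩ ⟨(r' : R), hcast r'.2⟩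
        map_smul' := fun c r => map_smul F c ⟨(r : R), hcast r.2⟩ }
    refine ⟨h, hh, fun c => ?_⟩
    have hc : (show R from c.1) ∈ 𝒜 (a - d) := by
      have h1 : (show R from c.1) ∈ 𝒜 (-d + a) := c.2
      rwa [neg_add_eq_sub] at h1
    exact hF ⟨show R from c.1, hc⟩

end Groth.Agent.GrMod19.Vero
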