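import Groth.Agent.GrMod19.Ver.Acyclic
import Groth.Agent.GrMod19.Positive

/-!
The irrelevant ideal of a Veronese subring.
-/

universe u

open DirectSum

namespace Groth.Agent.GrMod19.Vero

set_option autoImplicit false

variable {R R' : Type u} [CommRing R] [CommRing R'] {𝒜 : ℤ → AddSubgroup R} [GradedRing 𝒜]
  {𝒜' : ℤ → AddSubgroup R'} [GradedRing 𝒜'] (V : Vero 𝒜 𝒜')

/-- the irrelevant ideals correspond up to radical -/
theorem radical_map_plus {a : HomogeneousIdeal 𝒜} {a' : HomogeneousIdeal 𝒜'} (ha : IsPlus a)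
    (ha' : IsPlus a') : (a'.toIdeal.map V.φ).radical = a.toIdeal.radical := by
  refine le_antisymm (Ideal.radical_mono ?_) (Ideal.radical_le_radical_iff.2 ?_)
  · rw [ha', ha, Ideal.map_span, Ideal.span_le]
    rintro _ ⟨c, hc, rfl⟩
    obtain ⟨j, hj, hcj⟩ := Set.mem_iUnion₂.1 hc
    exact Ideal.subset_span (Set.mem_biUnion (x := j * (V.q : ℤ))
      (mul_pos (Set.mem_Ioi.1 hj) (Int.natCast_pos.2 V.pos)) (V.φ_mem hcj))
  · rw [ha, Ideal.span_le]
    intro x hx
    obtain ⟨i, hi, hxi⟩ := Set.mem_iUnion₂.1 hx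
    refine ⟨V.q, ?_⟩
    have h : x ^ V.q ∈ (𝒜' i).map (V.φ : R' →+ R) := by
      rw [V.deg, show i * (V.q : ℤ) = V.q • i by simp [mul_comm]]
      exact SetLike.pow_mem_graded V.q hxi
    obtain ⟨c, hc, hcx⟩ := h
    rw [← hcx]
    exact Ideal.mem_map_of_mem _ (ha' ▸ Ideal.subset_span (Set.mem_biUnion hi hc))

end Groth.Agent.GrMod19.Vero
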