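import Groth.Agent.GrMod19.Ver.Rank
import Groth.Agent.GrMod19.Ver.Plus

/-!
Graded local cohomology of the Veronese subring as a module.
-/

universe u

open DirectSum

namespace Groth.Agent.GrMod19.Vero

set_option autoImplicit false

variable {R R' : Type u} [CommRing R] [CommRing R'] {𝒜 : ℤ → AddSubgroup R} [GradedRing 𝒜]
  {𝒜' : ℤ → AddSubgroup R'} [GradedRing 𝒜'] (V : Vero 𝒜 𝒜')
  {M : Type u} [AddCommGroup M] [Module R M] (ℳ : ℤ → AddSubgroup M) [Decomposition ℳ]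
  [SetLike.GradedSMul 𝒜 ℳ]
  {a : HomogeneousIdeal 𝒜} {a' : HomogeneousIdeal 𝒜'}
  (ha : (a'.toIdeal.map V.φ).radical = a.toIdeal.radical) [IsNoetherianRing R]
include ha

/-- graded local cohomology commutes with Veronese parts, as modules -/
theorem exists_H_equiv [IsNoetherianRing R'] (r : ℤ) (E : GrLC.StarInjRes 𝒜 ℳ)
    (F : GrLC.StarInjRes 𝒜' (V.piece ℳ r)) (p : ℕ) [Decomposition (E.Hgr a p)]
    [SetLike.GradedSMul 𝒜 (E.Hgr a p)] :
    ∃ Ψ : V.Obj (E.Hgr a p) r ≃ₗ[R'] F.H a' p,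
      GrLC.IsGrHom (V.piece (E.Hgr a p) r) (F.Hgr a' p) Ψ.toLinearMap ∧
      GrLC.IsGrHom (F.Hgr a' p) (V.piece (E.Hgr a p) r) Ψ.symm.toLinearMap := by
  obtain ⟨θ, hθs, hθk, hθd⟩ := V.verData ha p M ℳ r E F
  have hgr : ∀ d, ∀ z : E.cocyc a p, (z : (E.X p).carrier) ∈ (E.X p).gr d →
      E.toH a p z ∈ E.Hgr a p d := fun d z hz => ⟨z, hz, rfl⟩
  have hproj : ∀ w : (E.X p).carrier, w ∈ E.cocyc a p → V.proj (E.X p).gr r w ∈ E.cocyc a p := by
    intro w hw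
    obtain ⟨t, ht⟩ := exists_sum_cmp (E.X p).gr w
    rw [← ht, map_sum]
    refine sum_mem fun d _ => ?_
    rw [V.proj_of_mem (E.X p).gr r (cmp_mem _ d w)]
    split_ifs
    · exact cmp_mem_cocyc E a p d hw
    · exact zero_mem _
  have hcl : ∀ (w : (E.X p).carrier) (hw : w ∈ E.cocyc a p),
      E.toH a p ⟨_, hproj w hw⟩ = V.proj (E.Hgr a p) r (E.toH a p ⟨w, hw⟩) := fun w hw => by
    obtain ⟨t, ht⟩ := exists_sum_cmp (E.X p).gr w
    have hsum : (⟨w, hw⟩ : E.cocyc a p) = ∑ d ∈ t, ⟨_, cmp_mem_cocyc E a p d hw⟩ :=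
      Subtype.ext (by rw [AddSubmonoidClass.coe_finsetSum]; exact ht.symm)
    have hsum' : (⟨_, hproj w hw⟩ : E.cocyc a p) =
        ∑ d ∈ t, if (V.q : ℤ) ∣ d - r then ⟨_, cmp_mem_cocyc E a p d hw⟩ else 0 := by
      refine Subtype.ext ?_
      rw [AddSubmonoidClass.coe_finsetSum]
      show V.proj (E.X p).gr r w = _
      conv_lhs => rw [← ht, map_sum]
      refine Finset.sum_congr rfl fun d _ => ?_
      rw [V.proj_of_mem (E.X p).gr r (cmp_mem _ d w)]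
      split_ifs <;> rfl
    rw [hsum', hsum, map_sum, map_sum, map_sum]
    refine Finset.sum_congr rfl fun d _ => ?_
    rw [V.proj_of_mem (E.Hgr a p) r (hgr d _ (cmp_mem _ d w))]
    split_ifs
    · rfl
    · exact map_zero _
  let π : V.cocycPart a E r p →ₗ[R'] V.Obj (E.Hgr a p) r :=
    { toFun := fun z => ⟨E.toH a p ⟨V.val (E.X p).gr z.1, z.2⟩, by
        show V.proj (E.Hgr a p) r _ = _
        rw [← hcl]
        exact congrArg _ (Subtype.ext (Subtype.prop z.1))⟩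
      map_add' := fun x y => V.val_injective _ r (map_add (E.toH a p) ⟨_, x.2⟩ ⟨_, y.2⟩)
      map_smul' := fun c x => V.val_injective _ r (map_smul (E.toH a p) (V.φ c) ⟨_, x.2⟩) }
  have hπs : Function.Surjective π := fun y => by
    obtain ⟨⟨w, hw⟩, hy⟩ := Submodule.mkQ_surjective _ (V.val (E.Hgr a p) y)
    refine ⟨⟨⟨V.proj (E.X p).gr r w, V.proj_mem_part _ r w⟩, hproj w hw⟩, V.val_injective _ r ?_⟩
    exact ((hcl w hw).trans (congrArg _ hy)).trans (Subtype.prop y)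
  have hker : LinearMap.ker π = LinearMap.ker θ := by
    ext z
    rw [LinearMap.mem_ker, LinearMap.mem_ker, hθk, ← (V.val_injective (E.Hgr a p) r).eq_iff, val_zero]
    exact Submodule.Quotient.mk_eq_zero _
  let Ψ := (π.quotKerEquivOfSurjective hπs).symm ≪≫ₗ Submodule.quotEquivOfEq _ _ hker ≪≫ₗ
    θ.quotKerEquivOfSurjective hθs
  have hΨ : ∀ z, Ψ (π z) = θ z := fun z => by
    have : (π.quotKerEquivOfSurjective hπs).symm (π z) = Submodule.Quotient.mk z :=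
      (π.quotKerEquivOfSurjective hπs).symm_apply_eq.2 rfl
    simp only [Ψ, LinearEquiv.trans_apply, this]
    rfl
  let : Decomposition (F.Hgr a' p) := (isInternal_Hgr F a' p).chooseDecomposition
  have h1 : GrLC.IsGrHom (V.piece (E.Hgr a p) r) (F.Hgr a' p) Ψ.toLinearMap := fun j y hy => by
    obtain ⟨z, hz, hzy⟩ := hy
    have h' : y = π ⟨⟨z.1, V.mem_part_of_mem _ r j hz⟩, z.2⟩ := V.val_injective _ r hzy.symm
    rw [h', LinearEquiv.coe_coe, hΨ]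
    exact hθd j _ hz
  exact ⟨Ψ, h1, GrInj18.isGrHom_symm (V.piece (E.Hgr a p) r) (F.Hgr a' p) h1⟩

/-- the same for the Veronese subring itself -/
theorem exists_H_equiv_self (E : GrLC.StarInjRes 𝒜 𝒜) (F : GrLC.StarInjRes 𝒜' 𝒜') (p : ℕ)
    [Decomposition (E.Hgr a p)] [SetLike.GradedSMul 𝒜 (E.Hgr a p)] :
    ∃ Ψ : V.Obj (E.Hgr a p) 0 ≃ₗ[R'] F.H a' p,
      GrLC.IsGrHom (V.piece (E.Hgr a p) 0) (F.Hgr a' p) Ψ.toLinearMap ∧
      GrLC.IsGrHom (F.Hgr a' p) (V.piece (E.Hgr a p) 0) Ψ.symm.toLinearMap := by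
  have := V.isNoetherianRing
  let g : R' →ₛₗ[V.φ] R :=
    { toFun := V.φ
      map_add' := map_add _
      map_smul' := fun c x => map_mul V.φ c x }
  obtain ⟨e, -, he, he'⟩ := V.nonempty_obj_equiv (R := R) 𝒜 𝒜' 0 g V.inj fun j => by
    rw [add_zero]
    exact V.deg j
  obtain ⟨F₀⟩ := GrInj18.nonempty_starInjRes 𝒜' (V.piece 𝒜 0)
  obtain ⟨Ψ, h1, h2⟩ := V.exists_H_equiv 𝒜 ha 0 E F₀ p
  let κ := hEquiv F₀ F a' e.symm (isGrHomDeg_zero_iff.2 he') (isGrHomDeg_zero_iff.2 he) (add_zero 0) p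
  exact ⟨Ψ.trans κ, fun j y hy => GrMod19.hMap_mem_Hcomp₀ a' F₀ F (isGrHomDeg_zero_iff.2 he') (h1 j y hy),
    fun j y hy => h2 j _ (GrMod19.hMap_mem_Hcomp₀ a' F F₀ (isGrHomDeg_zero_iff.2 he) hy)⟩

end Groth.Agent.GrMod19.Vero
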