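import Groth.Agent.GrMod19.Ver.Compare
import Groth.Agent.GrMod19.Van

/-!
Pieces of the graded local cohomology of Veronese parts.
-/

universe u

open DirectSum

namespace Groth.Agent.GrMod19.Vero

set_option autoImplicit false

variable {R R' : Type u} [CommRing R] [CommRing R'] {𝒜 : ℤ → AddSubgroup R} [GradedRing 𝒜]
  {𝒜' : ℤ → AddSubgroup R'} [GradedRing 𝒜'] (V : Vero 𝒜 𝒜')

/-- the degree-zero subrings -/
def deg0Map : GrLC.deg0 𝒜' →+* GrLC.deg0 𝒜 :=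
  (V.φ.comp (GrLC.deg0 𝒜').subtype).codRestrict (GrLC.deg0 𝒜) fun c => by
    show V.φ c.1 ∈ 𝒜 0
    simpa using V.φ_mem (j := 0) c.2

theorem deg0Map_bijective : Function.Bijective V.deg0Map := by
  refine ⟨fun a b h => Subtype.ext (V.inj (congrArg Subtype.val h)), fun x => ?_⟩
  have hx : (x : R) ∈ (𝒜' 0).map (V.φ : R' →+ R) := by
    rw [V.deg 0, zero_mul]
    exact x.2
  obtain ⟨c, hc, hcx⟩ := hx
  exact ⟨⟨c, hc⟩, Subtype.ext hcx⟩

variable {M : Type u} [AddCommGroup M] [Module R M] (ℳ : ℤ → AddSubgroup M) [Decomposition ℳ]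
  [SetLike.GradedSMul 𝒜 ℳ]

/-- a presentation of a Veronese part is the Veronese part -/
theorem nonempty_obj_equiv {M' : Type u} [AddCommGroup M'] [Module R' M'] (ℳ' : ℤ → AddSubgroup M')
    [Decomposition ℳ'] [SetLike.GradedSMul 𝒜' ℳ'] (r : ℤ) (g : M' →ₛₗ[V.φ] M)
    (hg : Function.Injective g) (hdeg : ∀ j : ℤ, (ℳ' j).map (g : M' →+ M) = ℳ (j * V.q + r)) :
    ∃ e : M' ≃ₗ[R'] V.Obj ℳ r, (∀ x, V.val ℳ (e x) = g x) ∧
      GrLC.IsGrHom ℳ' (V.piece ℳ r) e.toLinearMap ∧ GrLC.IsGrHom (V.piece ℳ r) ℳ' e.symm.toLinearMap := by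
  have hmem : ∀ j, ∀ x ∈ ℳ' j, g x ∈ ℳ (j * V.q + r) := fun j x hx => by
    rw [← hdeg j]; exact ⟨x, hx, rfl⟩
  have hpart : ∀ x, g x ∈ V.part ℳ r := fun x => by
    induction x using piece_induction ℳ' with
    | h0 => rw [map_zero]; exact zero_mem _
    | hadd p p' hp hp' => rw [map_add]; exact add_mem hp hp'
    | hp j p hp => exact V.mem_part_of_mem ℳ r j (hmem j p hp)
  let f : M' →ₗ[R'] V.Obj ℳ r :=
    { toFun := fun x => ⟨g x, hpart x⟩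
      map_add' := fun x y => V.val_injective ℳ r (map_add g x y)
      map_smul' := fun c x => V.val_injective ℳ r (map_smulₛₗ g c x) }
  have hgr : GrLC.IsGrHom ℳ' (V.piece ℳ r) f := fun j x hx => hmem j x hx
  have hpre : ∀ j, ∀ y ∈ V.piece ℳ r j, ∃ x ∈ ℳ' j, f x = y := fun j y hy => by
    have h : V.val ℳ y ∈ (ℳ' j).map (g : M' →+ M) := by rw [hdeg j]; exact hy
    obtain ⟨x, hx, hxy⟩ := h
    exact ⟨x, hx, V.val_injective ℳ r hxy⟩
  have hsurj : Function.Surjective f := fun y => by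
    induction y using piece_induction (V.piece ℳ r) with
    | h0 => exact ⟨0, map_zero f⟩
    | hadd p p' hp hp' =>
      obtain ⟨x, rfl⟩ := hp
      obtain ⟨x', rfl⟩ := hp'
      exact ⟨x + x', map_add f x x'⟩
    | hp j p hp => exact (hpre j p hp).imp fun x hx => hx.2
  have hinj : Function.Injective f := fun x y h => hg (congrArg (V.val ℳ) h)
  refine ⟨LinearEquiv.ofBijective f ⟨hinj, hsurj⟩, fun _ => rfl, hgr, fun j y hy => ?_⟩
  obtain ⟨x, hx, rfl⟩ := hpre j y hy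
  rw [show (LinearEquiv.ofBijective f ⟨hinj, hsurj⟩).symm.toLinearMap (f x) = x from
    (LinearEquiv.ofBijective f ⟨hinj, hsurj⟩).symm_apply_apply x]
  exact hx

/-- components in a Veronese part -/
theorem val_cmp (r k : ℤ) (x : V.Obj ℳ r) :
    V.val ℳ (cmp (V.piece ℳ r) k x) = cmp ℳ (k * V.q + r) (V.val ℳ x) := by
  induction x using piece_induction (V.piece ℳ r) with
  | h0 => simp [val_zero]
  | hadd p₁ p₂ hp hp' => simp [val_add, hp, hp']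
  | hp i p₁ hp₁ =>
    by_cases hik : i = k
    · subst hik; rw [cmp_of_mem _ hp₁, cmp_of_mem _ (hp₁ : V.val _ p₁ ∈ _)]
    · rw [cmp_of_ne _ hp₁ hik, cmp_of_ne _ (hp₁ : V.val _ p₁ ∈ _)
        fun h => hik (V.mul_add_injective r h), val_zero]

variable {a : HomogeneousIdeal 𝒜} {a' : HomogeneousIdeal 𝒜'}
  (ha : (a'.toIdeal.map V.φ).radical = a.toIdeal.radical) [IsNoetherianRing R]
include ha

/-- the piecewise isomorphism -/
theorem exists_piece_equiv [IsNoetherianRing R'] (r : ℤ) (E : GrLC.StarInjRes 𝒜 ℳ)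
    (F : GrLC.StarInjRes 𝒜' (V.piece ℳ r)) (p : ℕ) (j : ℤ) :
    ∃ ψ : E.Hcomp a p (j * V.q + r) ≃+ F.Hcomp a' p j,
      ∀ (c : GrLC.deg0 𝒜') (x : E.Hcomp a p (j * V.q + r)), ψ (V.deg0Map c • x) = c • ψ x := by
  obtain ⟨θ, hθs, hθk, hθd⟩ := V.verData ha p M ℳ r E F
  let P : AddSubgroup (V.cocycPart a E r p) :=
    ((E.X p).gr (j * V.q + r)).comap ((V.incl (E.X p).gr r).toAddMonoidHom.comp
      (V.cocycPart a E r p).subtype.toAddMonoidHom)
  let f₁ : P →+ E.Hcomp a p (j * V.q + r) :=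
    AddMonoidHom.mk' (fun z => ⟨E.toH a p ⟨V.val (E.X p).gr z.1.1, z.1.2⟩,
      ⟨⟨V.val (E.X p).gr z.1.1, z.1.2⟩, (z.2 : V.val (E.X p).gr z.1.1 ∈ _), rfl⟩⟩)
      fun x y => Subtype.ext (map_add (E.toH a p) ⟨_, x.1.2⟩ ⟨_, y.1.2⟩)
  let f₂ : P →+ F.Hcomp a' p j :=
    AddMonoidHom.mk' (fun z => ⟨θ z.1, hθd j z.1 z.2⟩) fun x y => Subtype.ext (map_add θ x.1 y.1)
  have h₁ : Function.Surjective f₁ := fun x => by
    obtain ⟨z, hz, hx⟩ := x.2
    exact ⟨⟨⟨⟨z.1, V.mem_part_of_mem _ r j hz⟩, z.2⟩, hz⟩, Subtype.ext hx⟩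
  have h₂ : Function.Surjective f₂ := fun y => by
    obtain ⟨z, hz⟩ := hθs y.1
    let : Decomposition (F.Hgr a' p) := (isInternal_Hgr F a' p).chooseDecomposition
    obtain ⟨t, ht⟩ := exists_sum_cmp (V.piece (E.X p).gr r) z.1
    let w : ℤ → V.cocycPart a E r p := fun k => ⟨cmp (V.piece (E.X p).gr r) k z.1, by
      show V.val (E.X p).gr _ ∈ E.cocyc a p
      rw [V.val_cmp (ℳ := (E.X p).gr)]
      exact cmp_mem_cocyc E a p _ z.2⟩
    have hw : ∀ k, V.val (E.X p).gr (w k).1 ∈ (E.X p).gr (k * V.q + r) := fun k =>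
      cmp_mem (V.piece (E.X p).gr r) k z.1
    refine ⟨⟨w j, hw j⟩, Subtype.ext ?_⟩
    show θ (w j) = y.1
    have hsum : z = ∑ k ∈ t, w k := Subtype.ext (by rw [AddSubmonoidClass.coe_finsetSum]; exact ht.symm)
    have hy : cmp (F.Hgr a' p) j y.1 = y.1 := cmp_of_mem _ y.2
    rw [← hy, ← hz]
    conv_rhs => rw [hsum, map_sum, map_sum]
    by_cases hj : j ∈ t
    · rw [Finset.sum_eq_single_of_mem j hj fun k _ hk => cmp_of_ne _ (hθd k (w k) (hw k)) hk,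
        cmp_of_mem _ (hθd j (w j) (hw j))]
    · rw [Finset.sum_eq_zero fun k hk => cmp_of_ne _ (hθd k (w k) (hw k)) fun h => hj (by rwa [← h])]
      refine (hθk _).2 ?_
      have : cmp (V.piece (E.X p).gr r) j z.1 = 0 := by
        rw [← ht, map_sum]
        exact Finset.sum_eq_zero fun k hk => cmp_of_ne _ (cmp_mem _ k _) fun h => hj (by rwa [← h])
      show V.val (E.X p).gr (cmp (V.piece (E.X p).gr r) j z.1) ∈ _
      rw [this]
      exact Submodule.zero_mem _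
  obtain ⟨ψ, hψ⟩ := LC16.ChangeRings.exists_addEquiv_of_surjective f₁ f₂ h₁ h₂ fun z => by
    rw [Subtype.ext_iff, Subtype.ext_iff]
    show E.toH a p _ = 0 ↔ θ z.1 = 0
    rw [hθk z.1]
    exact Submodule.Quotient.mk_eq_zero _
  refine ⟨ψ, fun c x => ?_⟩
  obtain ⟨z, rfl⟩ := h₁ x
  let cz : P := ⟨(c : R') • z.1, by
    show V.φ c.1 • V.val _ z.1.1 ∈ (E.X p).gr _
    have h' := smul_mem_add 𝒜 (E.X p).gr (V.deg0Map c).2 (z.2 : V.val (E.X p).gr z.1.1 ∈ _)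
    rwa [zero_add] at h'⟩
  have h : V.deg0Map c • f₁ z = f₁ cz :=
    Subtype.ext (map_smul (E.toH a p) (V.φ c.1) ⟨V.val (E.X p).gr z.1.1, z.1.2⟩).symm
  rw [h, hψ, hψ]
  exact Subtype.ext (map_smul θ (c : R') z.1)

/-- dimensions of the pieces -/
theorem finrank_Hcomp_eq {M' : Type u} [AddCommGroup M'] [Module R' M'] (ℳ' : ℤ → AddSubgroup M')
    [Decomposition ℳ'] [SetLike.GradedSMul 𝒜' ℳ'] (r : ℤ) (g : M' →ₛₗ[V.φ] M)
    (hg : Function.Injective g) (hdeg : ∀ j : ℤ, (ℳ' j).map (g : M' →+ M) = ℳ (j * V.q + r))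
    (E : GrLC.StarInjRes 𝒜 ℳ) (F : GrLC.StarInjRes 𝒜' ℳ') (p : ℕ) (j : ℤ) :
    Module.finrank (GrLC.deg0 𝒜') (F.Hcomp a' p j) =
      Module.finrank (GrLC.deg0 𝒜) (E.Hcomp a p (j * V.q + r)) := by
  have := V.isNoetherianRing
  obtain ⟨F₀⟩ := GrInj18.nonempty_starInjRes 𝒜' (V.piece ℳ r)
  obtain ⟨e, -, he, he'⟩ := V.nonempty_obj_equiv ℳ ℳ' r g hg hdeg
  obtain ⟨ψ, hψ⟩ := V.exists_piece_equiv ℳ ha r E F₀ p j
  let κ := hEquiv F F₀ a' e (isGrHomDeg_zero_iff.2 he) (isGrHomDeg_zero_iff.2 he') (add_zero 0) p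
  have hκ : (F.Hcomp a' p j).map (κ.toLinearMap.restrictScalars (GrLC.deg0 𝒜')) = F₀.Hcomp a' p j := by
    refine le_antisymm ?_ fun x hx => ?_
    · rintro _ ⟨x, hx, rfl⟩
      exact GrMod19.hMap_mem_Hcomp₀ a' F F₀ (isGrHomDeg_zero_iff.2 he) hx
    · exact ⟨κ.symm x, GrMod19.hMap_mem_Hcomp₀ a' F₀ F (isGrHomDeg_zero_iff.2 he') hx, κ.apply_symm_apply x⟩
  rw [((κ.restrictScalars (GrLC.deg0 𝒜')).ofSubmodules _ _ hκ).finrank_eq]
  exact congrArg Cardinal.toNat (rank_eq_of_equiv_equiv (R := GrLC.deg0 𝒜') (R' := GrLC.deg0 𝒜)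
    V.deg0Map ψ.symm V.deg0Map_bijective fun c x => ψ.injective (by
      rw [hψ, ψ.apply_symm_apply, ψ.apply_symm_apply]))

end Groth.Agent.GrMod19.Vero
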