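import Groth.Agent.GrMod19.Ver.HEquiv
import Groth.Agent.GrMod19.Gor.StarCM
import Groth.Agent.GrMod19.Gor.Hull
import Groth.Agent.GrMod19.CMTop
import Groth.Agent.EGA4Alg4.IntegralDim

/-!
Veronese subrings of graded rings over a field: dimension and the Cohen–Macaulay property.
-/

universe u

open DirectSum GrLC

namespace Groth.Agent.GrMod19

set_option autoImplicit false

/-- over a field the irrelevant ideal is the maximal homogeneous ideal -/
theorem exists_star_plus {R : Type u} [CommRing R] [IsNoetherianRing R] {𝒜 : ℤ → AddSubgroup R}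
    [GradedRing 𝒜] (hpos : NonnegGr 𝒜) (h0 : IsField (deg0 𝒜)) :
    ∃ m : HomogeneousIdeal 𝒜, IsStarLocal 𝒜 m ∧ IsPlus m := by
  have ha := isPlus_irrel (R := R) (𝒜 := 𝒜)
  let a : HomogeneousIdeal 𝒜 := GrSyz.irrel 𝒜
  have h1 : (1 : R) ∈ 𝒜 0 := SetLike.GradedOne.one_mem
  have : Nontrivial (deg0 𝒜) := ⟨h0.exists_pair_ne⟩
  have hne : a ≠ ⊤ := fun h => by
    have h2 : (1 : R) ∈ a.toIdeal := by rw [h]; exact Submodule.mem_top
    rw [mem_plus_iff hpos (ha hpos), cmp_of_mem 𝒜 h1] at h2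
    exact one_ne_zero (α := deg0 𝒜) (Subtype.ext h2)
  have hle : ∀ J : HomogeneousIdeal 𝒜, J ≠ ⊤ → J ≤ a := fun J hJ x hx => by
    change x ∈ a.toIdeal
    rw [mem_plus_iff hpos (ha hpos)]
    by_contra hx0
    obtain ⟨b, hb⟩ := h0.mul_inv_cancel
      (show (⟨cmp 𝒜 0 x, cmp_mem 𝒜 0 x⟩ : deg0 𝒜) ≠ 0 from fun h => hx0 (congrArg Subtype.val h))
    refine hJ (HomogeneousIdeal.toIdeal_injective (((Ideal.eq_top_iff_one _).2 ?_).trans
      HomogeneousIdeal.toIdeal_top.symm))
    rw [show (1 : R) = cmp 𝒜 0 x * (b : R) from (congrArg Subtype.val hb).symm]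
    exact J.toIdeal.mul_mem_right _ (J.isHomogeneous 0 hx)
  refine ⟨a, ⟨⟨hne, fun J hJ => by_contra fun h => hJ.not_ge (hle J h)⟩, fun J hJ => ?_⟩, ha hpos⟩
  exact (hJ.le_iff_eq hne).1 (hle J hJ.1) |>.symm

namespace Vero

variable {R R' : Type u} [CommRing R] [CommRing R'] {𝒜 : ℤ → AddSubgroup R} [GradedRing 𝒜]
  {𝒜' : ℤ → AddSubgroup R'} [GradedRing 𝒜'] (V : Vero 𝒜 𝒜') (hpos : NonnegGr 𝒜)
  (h0 : IsField (deg0 𝒜))
include hpos V

theorem nonnegGr : NonnegGr 𝒜' := fun j hj x hx =>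
  V.inj ((hpos (j * V.q) (mul_neg_of_neg_of_pos hj (Int.natCast_pos.2 V.pos)) _ (V.φ_mem hx)).trans
    (map_zero V.φ).symm)

include h0 in
omit hpos in
theorem isField_deg0 : IsField (deg0 𝒜') :=
  (RingEquiv.ofBijective V.deg0Map V.deg0Map_bijective).toMulEquiv.isField h0

variable [IsNoetherianRing R]

include hpos in
omit [IsNoetherianRing R] in
/-- dimension is unchanged -/
theorem ringKrullDim_eq : ringKrullDim R' = ringKrullDim R := by
  let : Algebra R' R := V.φ.toAlgebra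
  have : Algebra.IsIntegral R' R := ⟨fun x => by
    induction x using piece_induction 𝒜 with
    | h0 => exact isIntegral_zero
    | hadd a b ha hb => exact ha.add hb
    | hp i a ha =>
      have h : a ^ V.q ∈ (𝒜' i).map (V.φ : R' →+ R) := by
        rw [V.deg, show i * (V.q : ℤ) = V.q • i by simp [mul_comm]]
        exact SetLike.pow_mem_graded V.q ha
      obtain ⟨c, -, hc⟩ := h
      refine IsIntegral.of_pow V.pos ?_
      rw [← hc]
      exact isIntegral_algebraMap⟩
  exact (EGA4Alg4.ringKrullDim_eq_of_integral R' R V.inj).symm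

include h0 in
/-- Veronese subrings of Cohen–Macaulay rings -/
theorem isCohenMacaulayRing [LocCoh.IsCohenMacaulayRing R] {n : ℕ} (hn : ringKrullDim R = n) :
    LocCoh.IsCohenMacaulayRing R' := by
  have hN := V.isNoetherianRing
  obtain ⟨m, hm, hma⟩ := exists_star_plus hpos h0
  obtain ⟨m', hm', hm'a⟩ := exists_star_plus (V.nonnegGr hpos) (V.isField_deg0 h0)
  have hmax := isMaximal_star (V.nonnegGr hpos) hm'
  refine Gor.cm_of_star hm' ?_
  let A := Localization.AtPrime m'.toIdeal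
  have hdim : ringKrullDim A = n := by
    rw [IsLocalization.AtPrime.ringKrullDim_eq_height m'.toIdeal A,
      height_star_eq (V.nonnegGr hpos) hm', V.ringKrullDim_eq hpos, hn]
  obtain ⟨I⟩ := GrInj18.nonempty_starInjRes 𝒜 𝒜
  obtain ⟨I'⟩ := GrInj18.nonempty_starInjRes 𝒜' 𝒜'
  have hvan : ∀ i < n, Subsingleton (LocCoh.H (IsLocalRing.maximalIdeal A) i A) := fun i hi => by
    obtain ⟨e⟩ := Gor.nonempty_H_localized (m := m') I' i
    let : Decomposition (I.Hgr m i) := (isInternal_Hgr I m i).chooseDecomposition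
    have : SetLike.GradedSMul 𝒜 (I.Hgr m i) := ⟨fun {k j} a x ha hx => by
      rw [vadd_eq_add, add_comm]; exact smul_mem_Hcomp I m i ha hx⟩
    obtain ⟨Θ, -, -⟩ := V.exists_H_equiv_self (V.radical_map_plus hma hm'a) I I' i
    obtain ⟨eI⟩ := nonempty_H_equiv I m i
    have := (lc_top hpos hm hn).1 i hi
    have := eI.toEquiv.subsingleton
    have : Subsingleton (V.Obj (I.Hgr m i) 0) := (V.val_injective (I.Hgr m i) 0).subsingleton
    have := Θ.toEquiv.symm.subsingleton
    have : Subsingleton (LocalizedModule m'.toIdeal.primeCompl (I'.H m' i)) :=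
      LocalizedModule.subsingleton_iff.2 fun x => ⟨1, Submonoid.one_mem _, Subsingleton.elim _ _⟩
    exact e.toEquiv.symm.subsingleton
  rw [CAlg1.cmLocal_iff, hdim, LocCoh.depth]
  exact WithBot.coe_le_coe.2 ((LC17.natCast_le_idealDepth_iff _ A n).2 hvan)

end Vero

end Groth.Agent.GrMod19
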